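import Cfsg.Agent.Lib.FgsC.ClassBound.Arith

/-!
# The arithmetic of the sharp class number bound
-/

set_option autoImplicit false

namespace CfsgLib.Sharp

open CfsgLib.ClassBound

/-- The prime used to refine a chain. -/
def rr (d : ℕ) : ℕ :=
  if 5 ∣ d then 5 else if 3 ∣ d then 3 else if 2 ∣ d then 2 else if 7 ∣ d then 7 else d.minFac

theorem rr_prime {d : ℕ} (hd : 2 ≤ d) : (rr d).Prime ∧ rr d ∣ d := by
  unfold rr
  split_ifs with h5 h3 h2 h7
  · exact ⟨by norm_num, h5⟩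
  · exact ⟨by norm_num, h3⟩
  · exact ⟨by norm_num, h2⟩
  · exact ⟨by norm_num, h7⟩
  · exact ⟨Nat.minFac_prime (by omega), Nat.minFac_dvd d⟩

/-- Products along a chain of subgroups of index `rr d`. -/
def chi : ℕ → ℕ → ℕ
  | 0, _ => 1
  | k + 1, d => if d ≤ 1 then 1 else d * chi k (d / rr d)

/-- The first step moves a non-zero element. -/
def chiA (k d : ℕ) : ℕ := if d ≤ 1 then 1 else (d - 1) * chi k (d / rr d)

/-- Bounds for `[C : N]` when `[N : A] = e ^ 2`. -/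
def hb (e : ℕ) : ℕ := [1, 1, 6, 24, 72, 120, 3360, 336, 1296, 80 * 27 * 9 * 3].getD e 0

theorem chiA_le_hb {e : ℕ} (he : e ≤ 9) (h4 : e ≠ 4) (h8 : e ≠ 8) : chiA 7 (e ^ 2) ≤ hb e := by
  interval_cases e <;> first | omega | decide +kernel

theorem b_big {m : ℕ} (hm : 10 ≤ m) : 10 * (b m + 1) ≤ 177 * 11 ^ (m - 2) := by
  by_cases hs : m ≤ 128
  · have h : ∀ m ≤ 128, 10 ≤ m → 10 * (b m + 1) ≤ 177 * 11 ^ (m - 2) := by decide +kernel
    exact h m hs hm
  set c := Nat.clog 2 m with hc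
  have hc8 : 8 ≤ c := by
    have : Nat.clog 2 129 ≤ Nat.clog 2 m := Nat.clog_mono_right 2 (by omega)
    have h : Nat.clog 2 129 = 8 := by decide +kernel
    omega
  have hm2 : m ≤ 2 ^ c := Nat.le_pow_clog (by norm_num) m
  have hlow : 2 ^ (c - 1) < m := Nat.pow_pred_clog_lt_self (by norm_num) (by omega)
  have h1 : b m ≤ (2 ^ c) ^ (2 * (2 * c + 2)) := by
    rw [pow_mul, show (2 * c + 2) = (2 * c + 1) + 1 from rfl, pow_succ' ((2 ^ c) ^ 2), b]
    exact Nat.mul_le_mul (Nat.pow_le_pow_left hm2 2)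
      ((phi_le_pow _ _ (Nat.one_le_pow _ _ (by omega))).trans
        (Nat.pow_le_pow_left (Nat.pow_le_pow_left hm2 2) _))
  have hexp : ∀ c : ℕ, 8 ≤ c → c * (2 * (2 * c + 2)) + 3 ≤ 3 * 2 ^ (c - 1) := by
    intro c hc
    induction c, hc using Nat.le_induction with
    | base => norm_num
    | succ c hc ih =>
      rw [show 2 ^ (c + 1 - 1) = 2 * 2 ^ (c - 1) by rw [← pow_succ']; congr 1; omega]
      nlinarith
  calc 10 * (b m + 1) ≤ 20 * (2 ^ c) ^ (2 * (2 * c + 2)) := by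
        have := b_pos (m := m) (by omega); omega
    _ ≤ 177 * 2 ^ (3 * (m - 2)) := by
        rw [← pow_mul]
        exact Nat.mul_le_mul (by norm_num) (Nat.pow_le_pow_right (by norm_num) (by
          have := hexp c hc8
          omega))
    _ ≤ 177 * 11 ^ (m - 2) := by
        rw [pow_mul]
        exact Nat.mul_le_mul_left _ (Nat.pow_le_pow_left (by norm_num) _)

/-- The case of a field with `[C : A] = e ^ 2 * h`. -/
theorem field_arith {p f m e h : ℕ} (hp : 11 ≤ p) (hf : 1 ≤ f) (hn : 3 ≤ f * m) (hem : e ≤ m) (he : 2 ≤ e)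
    (h3 : e = 3 → f = 1 → 13 ≤ p) (hs : e ≤ 9 → h ≤ hb e) (hbig : e ^ 2 * h ≤ b m) :
    10 * (f ^ 2 * (e ^ 2 * h + 1)) ≤ 177 * p ^ (f * m - 2) := by
  have hf2 : f ^ 2 ≤ 4 ^ (f - 1) := by
    clear hn h3
    induction f, hf using Nat.le_induction with
    | base => norm_num
    | succ f hf ih =>
      rw [show 4 ^ (f + 1 - 1) = 4 * 4 ^ (f - 1) by rw [← pow_succ']; congr 1; omega]
      nlinarith
  rcases Nat.lt_or_ge m 3 with hm | hm
  · obtain rfl : m = 2 := by omega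
    obtain rfl : e = 2 := by omega
    have hh : h ≤ 6 := hs (by norm_num)
    obtain ⟨j, rfl⟩ : ∃ j, f = j + 2 := ⟨f - 2, by omega⟩
    calc 10 * ((j + 2) ^ 2 * (2 ^ 2 * h + 1)) ≤ 10 * (4 ^ (j + 2 - 1) * 25) :=
          Nat.mul_le_mul_left _ (Nat.mul_le_mul hf2 (by omega))
      _ = 1000 * 4 ^ j := by rw [show j + 2 - 1 = j + 1 by omega, pow_succ]; ring
      _ ≤ 177 * 121 * 121 ^ j := Nat.mul_le_mul (by norm_num) (Nat.pow_le_pow_left (by norm_num) _)
      _ = 177 * 11 ^ ((j + 2) * 2 - 2) := by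
          rw [show (j + 2) * 2 - 2 = 2 * (j + 1) by omega, pow_mul, pow_succ]; ring
      _ ≤ _ := Nat.mul_le_mul_left _ (Nat.pow_le_pow_left hp _)
  have key : 10 * (e ^ 2 * h + 1) ≤ 177 * p ^ (m - 2) ∨ (e = 3 ∧ m = 3 ∧ 2 ≤ f ∧ h ≤ 24) := by
    by_cases he9 : e ≤ 9
    · have hh := hs he9
      have hpow : 11 ^ (max e 3 - 2) ≤ p ^ (m - 2) :=
        (Nat.pow_le_pow_left hp _).trans (Nat.pow_le_pow_right (by omega) (by omega))
      by_cases h33 : e = 3 ∧ m = 3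
      · obtain ⟨rfl, rfl⟩ := h33
        simp only [hb, List.getD_cons_succ, List.getD_cons_zero] at hh
        rcases Nat.lt_or_ge f 2 with hf' | hf'
        · left
          have := h3 rfl (by omega)
          rw [show (3 : ℕ) - 2 = 1 from rfl, pow_one]
          omega
        · exact Or.inr ⟨rfl, rfl, hf', hh⟩
      left
      by_cases he3 : e = 3
      · subst he3
        have h121 : 11 ^ 2 ≤ p ^ (m - 2) :=
          (Nat.pow_le_pow_left hp _).trans (Nat.pow_le_pow_right (by omega) (by omega))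
        simp only [hb, List.getD_cons_succ, List.getD_cons_zero] at hh
        omega
      interval_cases e <;> simp only [hb, List.getD_cons_succ, List.getD_cons_zero] at hh <;>
        norm_num at hpow ⊢ <;> omega
    · left
      have hm10 : 10 ≤ m := by omega
      have := b_big hm10
      have hb1 := b_pos (m := m) (by omega)
      have : 11 ^ (m - 2) ≤ p ^ (m - 2) := Nat.pow_le_pow_left hp _
      omega
  have hsplit : f * m - 2 = (m - 2) + m * (f - 1) := by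
    rw [mul_comm f m, Nat.mul_sub m f 1, mul_one]
    have : m ≤ m * f := Nat.le_mul_of_pos_right _ hf
    omega
  rcases key with key | ⟨rfl, rfl, hf', hh⟩
  · rw [hsplit, pow_add]
    calc 10 * (f ^ 2 * (e ^ 2 * h + 1)) = f ^ 2 * (10 * (e ^ 2 * h + 1)) := by ring
      _ ≤ 4 ^ (f - 1) * (177 * p ^ (m - 2)) := Nat.mul_le_mul hf2 key
      _ ≤ p ^ (m * (f - 1)) * (177 * p ^ (m - 2)) := by
          refine Nat.mul_le_mul_right _ ?_
          rw [pow_mul]
          exact Nat.pow_le_pow_left (le_trans (by omega : 4 ≤ p) (Nat.le_self_pow (by omega) p)) _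
      _ = _ := by ring
  · obtain ⟨j, rfl⟩ : ∃ j, f = j + 2 := ⟨f - 2, by omega⟩
    calc 10 * ((j + 2) ^ 2 * (3 ^ 2 * h + 1)) ≤ 10 * (4 ^ (j + 2 - 1) * 217) :=
          Nat.mul_le_mul_left _ (Nat.mul_le_mul hf2 (by omega))
      _ = 8680 * 4 ^ j := by rw [show j + 2 - 1 = j + 1 by omega, pow_succ]; ring
      _ ≤ 177 * 14641 * 1331 ^ j := Nat.mul_le_mul (by norm_num) (Nat.pow_le_pow_left (by norm_num) _)
      _ = 177 * 11 ^ ((j + 2) * 3 - 2) := by
          rw [show (j + 2) * 3 - 2 = 3 * j + 4 by omega, pow_add, pow_mul]; ring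
      _ ≤ _ := Nat.mul_le_mul_left _ (Nat.pow_le_pow_left hp _)

/-- The case of a field with `C = A`. -/
theorem abelian_arith {p f n : ℕ} (hp : 11 ≤ p) (hfn : f ≤ n) (hn : 3 ≤ n) :
    10 * f ^ 2 ≤ 59 * p ^ (n - 2) := by
  refine (Nat.mul_le_mul_left _ (Nat.pow_le_pow_left hfn 2)).trans
    (le_trans ?_ (Nat.mul_le_mul_left _ (Nat.pow_le_pow_left hp _)))
  clear hfn
  induction n, hn using Nat.le_induction with
  | base => norm_num
  | succ n hn ih =>
    rw [show 11 ^ (n + 1 - 2) = 11 * 11 ^ (n - 2) by rw [← pow_succ']; congr 1; omega]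
    nlinarith

/-- Imprimitive groups with components of dimension at least two. -/
theorem comp_arith {p t i : ℕ} (hp : 11 ≤ p) (ht : 2 ≤ t) (hi : i ≤ 3 ^ (t - 1)) :
    10 * (i ^ 2 * 6 ^ t) ≤ 59 * p ^ (2 * t - 2) := by
  obtain ⟨j, rfl⟩ : ∃ j, t = j + 2 := ⟨t - 2, by omega⟩
  have h1 : i ^ 2 ≤ 9 * 9 ^ j := by
    calc i ^ 2 ≤ (3 ^ (j + 2 - 1)) ^ 2 := Nat.pow_le_pow_left hi 2
      _ = _ := by rw [show j + 2 - 1 = j + 1 by omega, ← pow_mul, mul_comm (j + 1) 2, pow_mul, pow_succ]; ring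
  calc 10 * (i ^ 2 * 6 ^ (j + 2)) ≤ 10 * ((9 * 9 ^ j) * 6 ^ (j + 2)) :=
        Nat.mul_le_mul_left _ (Nat.mul_le_mul_right _ h1)
    _ = 3240 * 54 ^ j := by rw [pow_add, show (54 : ℕ) = 9 * 6 from rfl, mul_pow]; ring
    _ ≤ 59 * 121 * 121 ^ j := Nat.mul_le_mul (by norm_num) (Nat.pow_le_pow_left (by norm_num) _)
    _ = 59 * 11 ^ (2 * (j + 2) - 2) := by
        rw [show 2 * (j + 2) - 2 = 2 * (j + 1) by omega, pow_mul, pow_succ]; ring
    _ ≤ _ := Nat.mul_le_mul_left _ (Nat.pow_le_pow_left hp _)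

/-- Monomial groups. -/
theorem mono_arith {p t i : ℕ} (hp : 11 ≤ p) (ht : 3 ≤ t) (hi : i ≤ 3 ^ (t - 1)) (hf : i ≤ t.factorial) :
    10 * i ^ 2 ≤ 59 * p ^ (t - 2) := by
  refine le_trans ?_ (Nat.mul_le_mul_left _ (Nat.pow_le_pow_left hp _))
  rcases Nat.lt_or_ge t 5 with h | h
  · interval_cases t <;> simp only [Nat.factorial] at hf <;> norm_num <;> nlinarith
  obtain ⟨j, rfl⟩ : ∃ j, t = j + 5 := ⟨t - 5, by omega⟩
  have h1 : i ^ 2 ≤ 6561 * 9 ^ j := by
    calc i ^ 2 ≤ (3 ^ (j + 5 - 1)) ^ 2 := Nat.pow_le_pow_left hi 2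
      _ = _ := by rw [show j + 5 - 1 = j + 4 by omega, ← pow_mul, mul_comm (j + 4) 2, pow_mul, pow_add]; ring
  calc 10 * i ^ 2 ≤ 65610 * 9 ^ j := by omega
    _ ≤ 59 * 1331 * 11 ^ j := Nat.mul_le_mul (by norm_num) (Nat.pow_le_pow_left (by norm_num) _)
    _ = _ := by rw [show j + 5 - 2 = j + 3 by omega, pow_add]; ring

/-- From a ratio to the bound. -/
theorem final_arith {p c a b k o : ℕ} (hc : 60 * 60 * 4 * (b * c) ≥ 49 * 49 * (p ^ 2 * a)) (ha : 0 < a)
    (hc' : b * c ≤ a * (k * o)) : 49 * p ≤ 60 * (k + o) := by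
  refine Nat.pow_le_pow_iff_left (two_ne_zero) |>.1 ?_
  refine Nat.le_of_mul_le_mul_left ?_ ha
  have h4 : 4 * (k * o) ≤ (k + o) ^ 2 := by nlinarith [sq_nonneg ((k : ℤ) - o)]
  calc a * (49 * p) ^ 2 = 49 * 49 * (p ^ 2 * a) := by ring
    _ ≤ 60 * 60 * 4 * (a * (k * o)) := hc.trans (Nat.mul_le_mul_left _ hc')
    _ = a * (60 * 60 * (4 * (k * o))) := by ring
    _ ≤ a * (60 * 60 * (k + o) ^ 2) := Nat.mul_le_mul_left _ (Nat.mul_le_mul_left _ h4)
    _ = _ := by ring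

/-- The exact case in dimension two. -/
theorem exact_arith {p z k o : ℕ} (hp : 11 ≤ p) (hne : p ≠ 10) (hz : z ∣ p - 1) (hk : 4 * z ≤ k)
    (ho : p ^ 2 ≤ o * (24 * z) + 1) : 49 * p ≤ 60 * (k + o) := by
  obtain ⟨j, hj⟩ := hz
  obtain rfl : p = z * j + 1 := by omega
  have hz0 : 0 < z := Nat.pos_of_ne_zero fun h => by subst h; omega
  refine Nat.le_of_mul_le_mul_left ?_ (show 0 < 24 * z by omega)
  by_cases h10 : 10 ≤ j
  · nlinarith [Nat.mul_le_mul_left z (Nat.mul_le_mul h10 h10), Nat.zero_le (z * z)]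
  rcases Nat.lt_or_ge z 3 with hz3 | hz3
  · interval_cases z <;> interval_cases j <;> omega
  interval_cases j <;> nlinarith

end CfsgLib.Sharp
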