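import Cfsg.Agent.Lib.FgsC.ClassBound.Primitive
import Cfsg.Agent.Lib.FgsC.Sharp.Arith

/-!
# `C / N` through a chain of subgroups of prime index in `N / A`
-/

set_option autoImplicit false

universe u

namespace CfsgLib.Sharp

open CfsgLib.BaseTwo CfsgLib.ClassBound
open scoped commutatorElement

variable {X : Type u} [Group X] (S : Sect X)

/-- The elements of `C` acting trivially on `U` modulo `A`. -/
def fixMod (U : Subgroup X) : Subgroup X where
  carrier := {g | g ∈ S.C ∧ ∀ x ∈ U, ⁅g, x⁆ ∈ S.A}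
  one_mem' := ⟨S.C.one_mem, fun x _ => by rw [commutatorElement_one_left]; exact S.A.one_mem⟩
  mul_mem' := fun {a b} ha hb => ⟨S.C.mul_mem ha.1 hb.1, fun x hx => by
    rw [show ⁅a * b, x⁆ = (a * ⁅b, x⁆ * a⁻¹) * ⁅a, x⁆ by simp only [commutatorElement_def]; group]
    exact S.A.mul_mem (S.hA.conj_mem _ (hb.2 x hx) a) (ha.2 x hx)⟩
  inv_mem' := fun {a} ha => ⟨S.C.inv_mem ha.1, fun x hx => by
    rw [show ⁅a⁻¹, x⁆ = a⁻¹ * ⁅a, x⁆⁻¹ * a⁻¹⁻¹ by simp only [commutatorElement_def]; group]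
    exact S.hA.conj_mem _ (S.A.inv_mem (ha.2 x hx)) a⁻¹⟩

theorem le_fixMod (U : Subgroup X) (hU : U ≤ S.N) : S.N ≤ fixMod S U :=
  fun g hg => ⟨S.hNC hg, fun x hx => S.hNN g hg x (hU hx)⟩

theorem fixMod_anti {U U' : Subgroup X} (h : U ≤ U') : fixMod S U' ≤ fixMod S U :=
  fun _ hg => ⟨hg.1, fun y hy => hg.2 y (h hy)⟩

variable [Finite X] {R : Type u} [CommRing R] [IsDomain R] (χ : S.A →* R) (hχ : Function.Injective χ)
include χ hχ

/-- One link of the chain. -/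
theorem fixMod_relIndex_le (U : Subgroup X) (hAU : S.A ≤ U) (hUN : U ≤ S.N) (x : X) (hxN : x ∈ S.N) :
    (fixMod S (U ⊔ Subgroup.zpowers x)).relIndex (fixMod S U) ≤ U.relIndex S.N ∧
      (x ∉ S.A → U = S.A → (fixMod S (U ⊔ Subgroup.zpowers x)).relIndex (fixMod S U) ≤ U.relIndex S.N - 1) := by
  classical
  haveI := S.hN
  haveI := S.hA
  set U' := U ⊔ Subgroup.zpowers x with hU'
  set W := S.N ⊓ Subgroup.centralizer (U : Set X) with hW
  have hAW : S.A ≤ W := le_inf S.hAN (Subgroup.le_centralizer_iff.1 (hUN.trans S.hNC))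
  have hWle : S.A.relIndex W ≤ U.relIndex S.N := by
    rw [S.relIndex_eq χ hχ W hAW inf_le_left]
    have hUW : U ≤ S.N ⊓ Subgroup.centralizer (W : Set X) :=
      le_inf hUN (Subgroup.le_centralizer_iff.1 inf_le_right)
    rw [← Subgroup.relIndex_mul_relIndex U _ S.N hUW inf_le_left]
    exact Nat.le_mul_of_pos_left _ (Sect.relIndex_pos _ _)
  have hHU' : ∀ g ∈ fixMod S U, ⁅g, x⁆ ∈ S.A → g ∈ fixMod S U' := by
    intro g hg hgx
    refine ⟨hg.1, fun y hy => ?_⟩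
    let M : Subgroup X :=
      { carrier := {y | y ∈ S.N ∧ ⁅g, y⁆ ∈ S.A}
        one_mem' := ⟨S.N.one_mem, by rw [commutatorElement_one_right]; exact S.A.one_mem⟩
        mul_mem' := fun {a b} ha hb => ⟨S.N.mul_mem ha.1 hb.1, by
          rw [show ⁅g, a * b⁆ = ⁅g, a⁆ * (a * ⁅g, b⁆ * a⁻¹) by simp only [commutatorElement_def]; group]
          exact S.A.mul_mem ha.2 (S.hA.conj_mem _ hb.2 a)⟩
        inv_mem' := fun {a} ha => ⟨S.N.inv_mem ha.1, by
          rw [show ⁅g, a⁻¹⁆ = a⁻¹ * ⁅g, a⁆⁻¹ * a⁻¹⁻¹ by simp only [commutatorElement_def]; group]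
          exact S.hA.conj_mem _ (S.A.inv_mem ha.2) a⁻¹⟩ }
    have hle : U' ≤ M := sup_le (fun z hz => ⟨hUN hz, hg.2 z hz⟩) (Subgroup.zpowers_le.2 ⟨hxN, hgx⟩)
    exact (hle hy).2
  have hmem : ∀ g : fixMod S U, ⁅(g : X), x⁆ ∈ W := by
    intro g
    have hy : (g : X) * x * (g : X)⁻¹ ∈ S.N := S.hN.conj_mem x hxN g
    refine Subgroup.mem_inf.2 ⟨S.N.mul_mem hy (S.N.inv_mem hxN), Subgroup.mem_centralizer_iff.2 fun z hz => ?_⟩
    have ha : ⁅(g : X), z⁆ ∈ S.A := g.2.2 z hz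
    have hxz : ⁅x, z⁆ ∈ S.A := S.hNN x hxN z (hUN hz)
    have e1 : (g : X) * x * (g : X)⁻¹ * (⁅(g : X), z⁆ * z) * ((g : X) * x * (g : X)⁻¹)⁻¹ * (⁅(g : X), z⁆ * z)⁻¹
        = ⁅x, z⁆ := by
      rw [show (g : X) * x * (g : X)⁻¹ * (⁅(g : X), z⁆ * z) * ((g : X) * x * (g : X)⁻¹)⁻¹ * (⁅(g : X), z⁆ * z)⁻¹
        = (g : X) * ⁅x, z⁆ * (g : X)⁻¹ by simp only [commutatorElement_def]; group,
        ← S.comm_A hxz g.2.1, mul_assoc, mul_inv_cancel, mul_one]
    rw [← mul_assoc ((g : X) * x * (g : X)⁻¹) ⁅(g : X), z⁆ z,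
      ← S.comm_A ha (S.hNC hy), mul_inv_rev] at e1
    have e2 : ⁅(g : X), z⁆ * ⁅(g : X) * x * (g : X)⁻¹, z⁆ * ⁅(g : X), z⁆⁻¹ = ⁅x, z⁆ := by
      rw [← e1]; simp only [commutatorElement_def]; group
    rw [S.comm_A ha (S.A_le_C (S.hNN _ hy z (hUN hz))), mul_assoc, mul_inv_cancel, mul_one] at e2
    rw [commutatorElement_def, commutatorElement_def] at e2
    show z * ⁅(g : X), x⁆ = ⁅(g : X), x⁆ * z
    rw [commutatorElement_def]
    set c := x * z * x⁻¹ * z⁻¹ with hc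
    set Y := (g : X) * x * (g : X)⁻¹ with hY
    have hcA : c⁻¹ ∈ S.A := S.A.inv_mem hxz
    have hcY : c⁻¹ * Y = Y * c⁻¹ := S.comm_A hcA (S.hNC hy)
    have hcx : c⁻¹ * x = x * c⁻¹ := S.comm_A hcA (S.hNC hxN)
    calc z * (Y * x⁻¹) = (Y * z * Y⁻¹ * z⁻¹)⁻¹ * Y * (z * x⁻¹) := by group
      _ = c⁻¹ * Y * (z * x⁻¹) := by rw [e2]
      _ = Y * (x⁻¹ * (c⁻¹ * x)) * (z * x⁻¹) := by rw [hcx, inv_mul_cancel_left, hcY]
      _ = Y * x⁻¹ * z := by rw [hc]; group
  let φ : fixMod S U → W ⧸ S.A.subgroupOf W := fun g => QuotientGroup.mk ⟨⁅(g : X), x⁆, hmem g⟩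
  let ψ : fixMod S U ⧸ (fixMod S U').subgroupOf (fixMod S U) → W ⧸ S.A.subgroupOf W := fun c => φ c.out
  have hψ : Function.Injective ψ := by
    intro c d h
    rw [← QuotientGroup.out_eq' c, ← QuotientGroup.out_eq' d, QuotientGroup.eq, Subgroup.mem_subgroupOf]
    refine hHU' _ (c.out⁻¹ * d.out).2 ?_
    have h' := QuotientGroup.eq.1 h
    rw [Subgroup.mem_subgroupOf] at h'
    push_cast at h' ⊢
    rw [show ⁅((c.out : X))⁻¹ * (d.out : X), x⁆ =
      (c.out : X)⁻¹ * (⁅(c.out : X), x⁆ * (⁅(c.out : X), x⁆⁻¹ * ⁅(d.out : X), x⁆) * ⁅(c.out : X), x⁆⁻¹) *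
        (c.out : X)⁻¹⁻¹ by simp only [commutatorElement_def]; group]
    exact S.hA.conj_mem _ (S.hA.conj_mem _ h' _) _
  have hcard : Nat.card (W ⧸ S.A.subgroupOf W) ≤ U.relIndex S.N := hWle
  refine ⟨(Nat.card_le_card_of_injective ψ hψ).trans hcard, fun hxA hUA => ?_⟩
  have hxW : x⁻¹ ∈ W := Subgroup.mem_inf.2 ⟨S.N.inv_mem hxN, Subgroup.mem_centralizer_iff.2 fun a ha =>
    S.comm_A (hUA ▸ ha) (S.hNC (S.N.inv_mem hxN))⟩
  have hmiss : ∀ c, ψ c ≠ QuotientGroup.mk ⟨x⁻¹, hxW⟩ := by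
    intro c h
    have h' := QuotientGroup.eq.1 h
    rw [Subgroup.mem_subgroupOf] at h'
    push_cast at h'
    refine hxA ?_
    have h2 := S.hA.conj_mem _ (S.A.inv_mem h') (x * (c.out : X))⁻¹
    rwa [show (x * (c.out : X))⁻¹ * (⁅(c.out : X), x⁆⁻¹ * x⁻¹)⁻¹ * (x * (c.out : X))⁻¹⁻¹ = x by
      simp only [commutatorElement_def]; group] at h2
  let ψ' : Option (fixMod S U ⧸ (fixMod S U').subgroupOf (fixMod S U)) → W ⧸ S.A.subgroupOf W :=
    fun o => o.elim (QuotientGroup.mk ⟨x⁻¹, hxW⟩) ψ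
  have hψ' : Function.Injective ψ' := by
    rintro (_ | c) (_ | d) h
    · rfl
    · exact absurd h.symm (hmiss d)
    · exact absurd h (hmiss c)
    · exact congrArg some (hψ h)
  have h := (Nat.card_le_card_of_injective ψ' hψ').trans hcard
  rw [Finite.card_option] at h
  exact Nat.le_sub_one_of_lt h

omit [Finite X] χ hχ in
theorem normal_subgroupOf (U : Subgroup X) (hAU : S.A ≤ U) (hUN : U ≤ S.N) : (U.subgroupOf S.N).Normal :=
  ⟨fun u hu n => by
    rw [Subgroup.mem_subgroupOf] at hu ⊢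
    push_cast
    rw [show (n : X) * (u : X) * (n : X)⁻¹ = ⁅(n : X), (u : X)⁆ * (u : X) by
      simp only [commutatorElement_def]; group]
    exact U.mul_mem (hAU (S.hNN _ n.2 _ (hUN hu))) hu⟩

omit χ hχ in
/-- A step of prime index. -/
theorem exists_step (U : Subgroup X) (hAU : S.A ≤ U) (hUN : U ≤ S.N) {r : ℕ} (hr : r.Prime)
    (hrd : r ∣ U.relIndex S.N) :
    ∃ x ∈ S.N, x ∉ U ∧ (U ⊔ Subgroup.zpowers x).relIndex S.N = U.relIndex S.N / r := by
  haveI := normal_subgroupOf S U hAU hUN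
  haveI : Fact r.Prime := ⟨hr⟩
  obtain ⟨q, hq⟩ := exists_prime_orderOf_dvd_card' (G := S.N ⧸ U.subgroupOf S.N) r
    (by rwa [← Subgroup.index_eq_card])
  obtain ⟨x, rfl⟩ := QuotientGroup.mk_surjective q
  have hxU : (x : X) ∉ U := fun h => by
    rw [(QuotientGroup.eq_one_iff x).2 (Subgroup.mem_subgroupOf.2 h), orderOf_one] at hq
    exact hr.one_lt.ne hq
  refine ⟨x, x.2, hxU, ?_⟩
  have hsub : (U ⊔ Subgroup.zpowers (x : X)).subgroupOf S.N =
      (Subgroup.zpowers (x : S.N ⧸ U.subgroupOf S.N)).comap (QuotientGroup.mk' (U.subgroupOf S.N)) := by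
    show _ = Subgroup.comap _ (Subgroup.zpowers (QuotientGroup.mk' (U.subgroupOf S.N) x))
    rw [← MonoidHom.map_zpowers (QuotientGroup.mk' (U.subgroupOf S.N)) x, Subgroup.comap_map_eq,
      QuotientGroup.ker_mk', Subgroup.subgroupOf_sup hUN (Subgroup.zpowers_le.2 x.2), sup_comm]
    congr 1
    ext y
    simp only [Subgroup.mem_subgroupOf, Subgroup.mem_zpowers_iff, Subtype.ext_iff, Subgroup.coe_zpow]
  rw [Subgroup.relIndex, hsub, Subgroup.index_comap_of_surjective _ (QuotientGroup.mk'_surjective _)]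
  have h := Subgroup.card_mul_index (Subgroup.zpowers (x : S.N ⧸ U.subgroupOf S.N))
  rw [Nat.card_zpowers, hq, ← Subgroup.index_eq_card] at h
  exact (Nat.div_eq_of_eq_mul_right hr.pos h.symm).symm

/-- `C / N` is small. -/
theorem chain_chi (k : ℕ) (hk : S.A.relIndex S.N ≤ 2 ^ k) : S.N.relIndex S.C ≤ chiA k (S.A.relIndex S.N) := by
  have hHN : fixMod S S.N ≤ S.N := fun g hg => by
    rw [← S.C_inf_K χ hχ]
    exact Subgroup.mem_inf.2 ⟨hg.1, hg.2⟩
  have key : ∀ k, ∀ U : Subgroup X, S.A ≤ U → U ≤ S.N → U.relIndex S.N ≤ 2 ^ k →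
      S.N.relIndex (fixMod S U) ≤ chi k (U.relIndex S.N) := by
    intro k
    induction k with
    | zero =>
      intro U hAU hUN hU
      have hU' : S.N ≤ U := Subgroup.relIndex_eq_one.1
        (le_antisymm (by simpa using hU) (Sect.relIndex_pos _ _))
      rw [show U = S.N from le_antisymm hUN hU', Subgroup.relIndex_eq_one.2 hHN]
      exact le_rfl
    | succ k ih =>
      intro U hAU hUN hU
      simp only [chi]
      by_cases h1 : U.relIndex S.N ≤ 1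
      · rw [if_pos h1]
        have hU' : S.N ≤ U := Subgroup.relIndex_eq_one.1 (le_antisymm h1 (Sect.relIndex_pos _ _))
        rw [show U = S.N from le_antisymm hUN hU', Subgroup.relIndex_eq_one.2 hHN]
      rw [if_neg h1]
      obtain ⟨hr, hrd⟩ := rr_prime (d := U.relIndex S.N) (by omega)
      obtain ⟨x, hxN, -, hstep⟩ := exists_step S U hAU hUN hr hrd
      have hU'N : U ⊔ Subgroup.zpowers x ≤ S.N := sup_le hUN (Subgroup.zpowers_le.2 hxN)
      have hIH := ih (U ⊔ Subgroup.zpowers x) (hAU.trans le_sup_left) hU'N (by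
        rw [hstep, pow_succ] at *
        have : U.relIndex S.N / rr (U.relIndex S.N) ≤ U.relIndex S.N / 2 := Nat.div_le_div_left hr.two_le two_pos
        omega)
      rw [hstep] at hIH
      rw [← Subgroup.relIndex_mul_relIndex _ _ _ (le_fixMod S _ hU'N) (fixMod_anti S le_sup_left), mul_comm]
      exact Nat.mul_le_mul (fixMod_relIndex_le S χ hχ U hAU hUN x hxN).1 hIH
  have hA : fixMod S S.A = S.C := le_antisymm (fun g hg => hg.1) fun g hg => ⟨hg, fun x hx => by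
    rw [commutatorElement_eq_one_iff_mul_comm.2 (S.comm_A hx hg).symm]
    exact S.A.one_mem⟩
  unfold chiA
  by_cases h1 : S.A.relIndex S.N ≤ 1
  · rw [if_pos h1, ← hA]
    have hU' : S.N ≤ S.A := Subgroup.relIndex_eq_one.1 (le_antisymm h1 (Sect.relIndex_pos _ _))
    rw [le_antisymm S.hAN hU', Subgroup.relIndex_eq_one.2 hHN]
  rw [if_neg h1]
  obtain ⟨hr, hrd⟩ := rr_prime (d := S.A.relIndex S.N) (by omega)
  obtain ⟨x, hxN, hxA, hstep⟩ := exists_step S S.A le_rfl S.hAN hr hrd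
  have hU'N : S.A ⊔ Subgroup.zpowers x ≤ S.N := sup_le S.hAN (Subgroup.zpowers_le.2 hxN)
  have hIH := key k (S.A ⊔ Subgroup.zpowers x) le_sup_left hU'N
    (hstep ▸ (Nat.div_le_self _ _).trans hk)
  rw [hstep] at hIH
  conv_lhs => rw [← hA]
  rw [← Subgroup.relIndex_mul_relIndex _ _ _ (le_fixMod S _ hU'N) (fixMod_anti S le_sup_left), mul_comm]
  exact Nat.mul_le_mul ((fixMod_relIndex_le S χ hχ S.A le_rfl S.hAN x hxN).2 hxA rfl) hIH

end CfsgLib.Sharp
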