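import Cfsg.Agent.Lib.FgsC.BaseTwo.Quot
import Mathlib.GroupTheory.GroupAction.CardCommute

/-!
# A section of order four

If `[N : A] = 4` then `[C : N] ≤ 4`, or `[C : N] = 6` and `k(C) ≥ 4 |A|`.
-/

set_option autoImplicit false
set_option linter.unusedSectionVars false
set_option linter.style.haveILetI false

universe u v

namespace CfsgLib.Sharp

open scoped commutatorElement
open CfsgLib.BaseTwo

namespace FourSectAux

open Subgroup

variable {X : Type u} [Group X] [Finite X]

/-- Commuting pairs, by the first entry. -/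
theorem sum_centralizer [Fintype X] :
    ∑ x : X, Nat.card (centralizer ({x} : Set X)) = Nat.card (ConjClasses X) * Nat.card X := by
  rw [← card_comm_eq_card_conjClasses_mul_card, Nat.card_congr (Equiv.subtypeProdEquivSigmaSubtype
    fun a b : X => Commute a b), Nat.card_sigma]
  exact Finset.sum_congr rfl fun x _ => Nat.card_congr (Equiv.subtypeEquivRight fun y => by
    rw [mem_centralizer_singleton_iff]
    exact ⟨fun h => h.symm, fun h => h.symm⟩)

/-- Powers give centralising cosets. -/
theorem mul_card_le {A : Subgroup X} (hA : A ≤ center X) {x : X} {k : ℕ}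
    (hk : ∀ d, 0 < d → d < k → x ^ d ∉ A) :
    k * Nat.card A ≤ Nat.card (centralizer ({x} : Set X)) := by
  have hc : ∀ (a : A) (i : ℕ), (a : X) * x ^ i ∈ centralizer ({x} : Set X) := fun a i =>
    mul_mem (mem_centralizer_singleton_iff.2 ((mem_center_iff.1 (hA a.2) x).symm))
      (pow_mem (mem_centralizer_singleton_iff.2 rfl) i)
  refine le_trans (le_of_eq ?_) (Nat.card_le_card_of_injective
    (fun p : A × Fin k => (⟨(p.1 : X) * x ^ (p.2 : ℕ), hc p.1 p.2⟩ : centralizer ({x} : Set X))) ?_)
  · rw [Nat.card_prod, Nat.card_fin, mul_comm]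
  have key : ∀ (a b : A) (i j : ℕ), i ≤ j → j < k → (a : X) * x ^ i = b * x ^ j → i = j := by
    intro a b i j hij hj heq
    by_contra hne
    refine hk (j - i) (by omega) (by omega) ?_
    have h2 : x ^ (j - i) = (b : X)⁻¹ * a := by
      rw [eq_inv_mul_iff_mul_eq, ← mul_left_inj (x ^ i), mul_assoc, ← pow_add,
        show j - i + i = j by omega, heq]
    rw [h2]
    exact mul_mem (inv_mem b.2) a.2
  rintro ⟨a, i⟩ ⟨b, j⟩ hab
  have heq : (a : X) * x ^ (i : ℕ) = b * x ^ (j : ℕ) := congrArg Subtype.val hab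
  have hij : (i : ℕ) = j := by
    rcases Nat.le_total (i : ℕ) j with h | h
    · exact key a b i j h j.2 heq
    · exact (key b a j i h i.2 heq.symm).symm
  rw [hij] at heq
  exact Prod.ext (Subtype.ext (mul_right_cancel heq)) (Fin.ext hij)

theorem card_le_centralizer_mul {T : Finset X} {x : X} (hT : ∀ g : X, g * x * g⁻¹ ∈ T) :
    Nat.card X ≤ Nat.card (centralizer ({x} : Set X)) * T.card := by
  rw [← (centralizer ({x} : Set X)).card_mul_index]
  refine Nat.mul_le_mul_left _ ?_
  rw [Subgroup.index_eq_card, ← Nat.card_eq_finsetCard]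
  refine Nat.card_le_card_of_injective
    (fun q : X ⧸ centralizer ({x} : Set X) => (⟨q.out * x * q.out⁻¹, hT _⟩ : T)) fun p q hpq => ?_
  have h1 : p.out * x * p.out⁻¹ = q.out * x * q.out⁻¹ := congrArg Subtype.val hpq
  rw [← QuotientGroup.out_eq' p, ← QuotientGroup.out_eq' q, QuotientGroup.eq,
    mem_centralizer_singleton_iff]
  calc p.out⁻¹ * q.out * x = p.out⁻¹ * (q.out * x * q.out⁻¹) * q.out := by group
    _ = x * (p.out⁻¹ * q.out) := by rw [← h1]; group

/-- The count. -/
theorem four_le_classes (A N : Subgroup X) [N.Normal] (hAN : A ≤ N) (hA : A ≤ center X)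
    (hN4 : Nat.card N = 4 * Nat.card A) (hX : Nat.card X = 6 * Nat.card N)
    (hsq : ∀ x ∈ N, x ^ 2 ∈ A) (hA2 : Nat.card {a : A // a ^ 2 = 1} ≤ 2)
    (hfaith : ∀ x, x ∉ N → ∃ n ∈ N, ⁅x, n⁆ ∉ A) (hcomm : ∀ m ∈ N, ∀ n ∈ N, ⁅m, n⁆ ∈ A) :
    4 * Nat.card A ≤ Nat.card (ConjClasses X) := by
  classical
  haveI : Fintype X := Fintype.ofFinite X
  haveI : A.Normal := ⟨fun a ha g => by
    rwa [mem_center_iff.1 (hA ha) g, mul_inv_cancel_right]⟩
  set a := Nat.card A with ha
  set f : X → ℕ := fun x => Nat.card (centralizer ({x} : Set X)) with hf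
  set UA : Finset X := Finset.univ.filter (· ∈ A) with hUA
  set UN : Finset X := Finset.univ.filter (fun x => x ∈ N ∧ x ∉ A) with hUN
  set UO : Finset X := Finset.univ.filter (fun x => x ∉ N) with hUO
  set B : Finset X := UO.filter (fun x => x ^ 2 ∈ A) with hB
  set B4 : Finset X := UO.filter (fun x => x ^ 2 ∈ N ∧ x ^ 2 ∉ A) with hB4
  have cA : UA.card = a := by
    rw [hUA, ← Nat.card_eq_finsetCard, ha]
    exact Nat.card_congr (Equiv.subtypeEquivRight fun x => by simp)
  have cN' : (Finset.univ.filter (· ∈ N)).card = 4 * a := by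
    rw [← Nat.card_eq_finsetCard, ← hN4]
    exact Nat.card_congr (Equiv.subtypeEquivRight fun x => by simp)
  have split_sum : ∀ g : X → ℕ,
      ∑ x ∈ UA, g x + ∑ x ∈ UN, g x + ∑ x ∈ UO, g x = ∑ x, g x := by
    intro g
    rw [← Finset.sum_filter_add_sum_filter_not Finset.univ (· ∈ N) g]
    congr 1
    rw [← Finset.sum_filter_add_sum_filter_not (Finset.univ.filter (· ∈ N)) (· ∈ A) g,
      Finset.filter_filter, Finset.filter_filter, hUA, hUN]
    congr 1
    refine Finset.sum_congr (Finset.filter_congr fun x _ => ?_) fun _ _ => rfl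
    exact ⟨fun h => ⟨hAN h, h⟩, And.right⟩
  have cN : UN.card = 3 * a := by
    have h1 : UA.card + UN.card = 4 * a := by
      rw [← cN', ← Finset.card_union_of_disjoint (Finset.disjoint_filter.2 fun x _ h h' => h'.2 h)]
      congr 1
      ext x
      simp only [hUA, hUN, Finset.mem_union, Finset.mem_filter, Finset.mem_univ, true_and]
      exact ⟨fun h => h.elim (fun h => hAN h) And.left, fun h => (em (x ∈ A)).imp_right fun h' => ⟨h, h'⟩⟩
    omega
  have cO : UO.card = 20 * a := by
    have h1 := split_sum fun _ => 1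
    simp only [Finset.sum_const, Finset.card_univ, smul_eq_mul, mul_one] at h1
    rw [← Nat.card_eq_fintype_card, hX, hN4, cA, cN] at h1
    omega
  have bA : ∀ x ∈ UA, 24 * a ≤ f x := by
    intro x hx
    rw [hUA, Finset.mem_filter] at hx
    have h1 : centralizer ({x} : Set X) = ⊤ := eq_top_iff.2 fun g _ =>
      mem_centralizer_singleton_iff.2 (mem_center_iff.1 (hA hx.2) g)
    simp only [hf]
    rw [h1, Subgroup.card_top, hX, hN4]
    omega
  have bN : ∀ x ∈ UN, 4 * a ≤ f x := by
    intro x hx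
    rw [hUN, Finset.mem_filter] at hx
    obtain ⟨-, hxN, hxA⟩ := hx
    set T : Finset X := UN.filter (fun z => z ^ 2 = x ^ 2) with hT
    have hmem : ∀ g : X, g * x * g⁻¹ ∈ T := by
      intro g
      simp only [hT, hUN, Finset.mem_filter, Finset.mem_univ, true_and]
      refine ⟨⟨(inferInstance : N.Normal).conj_mem x hxN g, fun h => hxA ?_⟩, ?_⟩
      · have := (inferInstance : A.Normal).conj_mem _ h g⁻¹
        simpa [mul_assoc] using this
      · rw [conj_pow, mem_center_iff.1 (hA (hsq x hxN)) g, mul_inv_cancel_right]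
    have himg : (T.image (QuotientGroup.mk : X → X ⧸ A)).card ≤ 3 := by
      have h4 : Nat.card (N.map (QuotientGroup.mk' A)) = 4 := by
        have e := Subgroup.card_mul_index ((QuotientGroup.mk' A).comp N.subtype).ker
        rw [Subgroup.index_ker, MonoidHom.range_comp, Subgroup.range_subtype] at e
        have hk : Nat.card ((QuotientGroup.mk' A).comp N.subtype).ker = a :=
          (Nat.card_congr (Equiv.setCongr (show ((QuotientGroup.mk' A).comp N.subtype).ker =
            (A.subgroupOf N : Set N) by ext y; simp [mem_subgroupOf]))).trans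
            (Nat.card_congr (subgroupOfEquivOfLe hAN).toEquiv)
        rw [hk, hN4, mul_comm 4] at e
        exact Nat.eq_of_mul_eq_mul_left (Nat.card_pos) e
      haveI : Fintype (N.map (QuotientGroup.mk' A)) := Fintype.ofFinite _
      have hsub : T.image (QuotientGroup.mk : X → X ⧸ A) ⊆
          ((N.map (QuotientGroup.mk' A) : Set (X ⧸ A)).toFinset).erase 1 := by
        intro q hq
        obtain ⟨z, hz, rfl⟩ := Finset.mem_image.1 hq
        simp only [hT, hUN, Finset.mem_filter, Finset.mem_univ, true_and] at hz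
        refine Finset.mem_erase.2 ⟨fun h1 => hz.1.2 ((QuotientGroup.eq_one_iff z).1 h1), ?_⟩
        rw [Set.mem_toFinset]
        exact ⟨z, hz.1.1, rfl⟩
      refine (Finset.card_le_card hsub).trans ?_
      rw [Finset.card_erase_of_mem (Set.mem_toFinset.2 (one_mem _)),
        Set.toFinset_card, ← Nat.card_eq_fintype_card]
      exact le_of_eq (by rw [show Nat.card ↥(N.map (QuotientGroup.mk' A) : Set (X ⧸ A)) = 4 from h4])
    have hfib : ∀ q ∈ T.image (QuotientGroup.mk : X → X ⧸ A),
        (T.filter fun z : X => (z : X ⧸ A) = q).card ≤ 2 := by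
      intro q hq
      obtain ⟨z0, hz0, rfl⟩ := Finset.mem_image.1 hq
      refine le_trans ?_ hA2
      rw [← Nat.card_eq_finsetCard]
      have hd : ∀ z : ↥(T.filter fun z : X => (z : X ⧸ A) = (z0 : X ⧸ A)),
          ∃ hm : z0⁻¹ * (z : X) ∈ A, (⟨_, hm⟩ : A) ^ 2 = 1 := by
        rintro ⟨z, hz⟩
        rw [Finset.mem_filter] at hz
        have hm : z0⁻¹ * z ∈ A := QuotientGroup.eq.1 hz.2.symm
        refine ⟨hm, Subtype.ext ?_⟩
        show (z0⁻¹ * z) ^ 2 = 1
        have h1 : z ^ 2 = x ^ 2 := (Finset.mem_filter.1 hz.1).2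
        have h2 : z0 ^ 2 = x ^ 2 := (Finset.mem_filter.1 hz0).2
        have hcm : Commute z0 (z0⁻¹ * z) := mem_center_iff.1 (hA hm) z0
        have h3 : z ^ 2 = z0 ^ 2 * (z0⁻¹ * z) ^ 2 := by
          rw [← hcm.mul_pow, mul_inv_cancel_left]
        rw [h1, h2] at h3
        exact left_eq_mul.1 h3
      choose hm hm2 using hd
      refine Nat.card_le_card_of_injective
        (fun z => (⟨⟨_, hm z⟩, hm2 z⟩ : {b : A // b ^ 2 = 1})) fun z w h => ?_
      exact Subtype.ext (mul_left_cancel (congrArg (fun b : {b : A // b ^ 2 = 1} => ((b : A) : X)) h))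
    have hT6 : T.card ≤ 6 :=
      (Finset.card_le_mul_card_image T 2 hfib).trans (Nat.mul_le_mul_left 2 himg)
    have h1 := (card_le_centralizer_mul hmem).trans (Nat.mul_le_mul_left _ hT6)
    rw [hX, hN4] at h1
    simp only [hf]
    omega
  have bO : ∀ x ∈ UO, 3 * a + (if x ∈ B4 then a else 0) ≤ f x + (if x ∈ B then a else 0) := by
    intro x hx
    have hxN : x ∉ N := (Finset.mem_filter.1 hx).2
    have hxA : x ∉ A := fun h => hxN (hAN h)
    by_cases h2 : x ^ 2 ∈ A
    · have hin : x ∈ B := Finset.mem_filter.2 ⟨hx, h2⟩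
      have hout : x ∉ B4 := fun h => (Finset.mem_filter.1 h).2.2 h2
      rw [if_pos hin, if_neg hout]
      have := mul_card_le hA (x := x) (k := 2) fun d h0 hd => by
        obtain rfl : d = 1 := by omega
        rwa [pow_one]
      simp only [hf]
      omega
    have hout : x ∉ B := fun h => h2 (Finset.mem_filter.1 h).2
    rw [if_neg hout]
    by_cases hN2 : x ^ 2 ∈ N
    · have hin : x ∈ B4 := Finset.mem_filter.2 ⟨hx, hN2, h2⟩
      rw [if_pos hin]
      have := mul_card_le hA (x := x) (k := 4) fun d h0 hd => by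
        interval_cases d
        · rwa [pow_one]
        · exact h2
        · intro h3
          refine hxN ?_
          have := mul_mem (inv_mem hN2) (hAN h3)
          rwa [show (x ^ 2)⁻¹ * x ^ 3 = x by group] at this
      simp only [hf]
      omega
    · have hout4 : x ∉ B4 := fun h => hN2 (Finset.mem_filter.1 h).2.1
      rw [if_neg hout4]
      have := mul_card_le hA (x := x) (k := 3) fun d h0 hd => by
        interval_cases d
        · rwa [pow_one]
        · exact h2
      simp only [hf]
      omega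
  have hBB : B.card ≤ B4.card := by
    have hch : ∀ q : X ⧸ N, ∃ n ∈ N, q.out ∉ N → ⁅q.out, n⁆ ∉ A := fun q => by
      by_cases h : q.out ∈ N
      · exact ⟨1, one_mem _, fun h' => absurd h h'⟩
      · obtain ⟨n, hn, hn'⟩ := hfaith _ h
        exact ⟨n, hn, fun _ => hn'⟩
    choose n hn hn' using hch
    refine Finset.card_le_card_of_injOn (fun y => y * n (y : X ⧸ N)) (fun y hy => ?_) fun y _ z _ hyz => ?_
    · obtain ⟨hy1, hy2⟩ := Finset.mem_filter.1 (Finset.mem_coe.1 hy)
      have hyN : y ∉ N := (Finset.mem_filter.1 hy1).2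
      set q : X ⧸ N := (y : X ⧸ N) with hq
      have hm : q.out⁻¹ * y ∈ N := QuotientGroup.eq.1 (QuotientGroup.out_eq' q)
      have hout : q.out ∉ N := fun h => hyN (by
        have := mul_mem h hm
        rwa [mul_inv_cancel_left] at this)
      have hyc : ⁅y, n q⁆ ∉ A := by
        intro h
        refine hn' q hout ?_
        have h1 : ⁅q.out⁻¹ * y, n q⁆ ∈ A := hcomm _ hm _ (hn q)
        have e : ⁅y, n q⁆ = q.out * ⁅q.out⁻¹ * y, n q⁆ * q.out⁻¹ * ⁅q.out, n q⁆ := by
          simp only [commutatorElement_def]; group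
        rw [e] at h
        exact (mul_mem_cancel_left ((inferInstance : A.Normal).conj_mem _ h1 _)).1 h
      have hsqy : (y * n q) ^ 2 ∈ N ∧ (y * n q) ^ 2 ∉ A := by
        have e : (y * n q) ^ 2 = ⁅y, n q⁆ * (n q * (y ^ 2) * n q) := by
          simp only [commutatorElement_def, pow_two]; group
        have hin : n q * y ^ 2 * n q ∈ A := by
          rw [mem_center_iff.1 (hA hy2) (n q), mul_assoc, ← sq (n q)]
          exact mul_mem hy2 (hsq _ (hn q))
        refine ⟨?_, fun h => hyc ?_⟩
        · rw [e]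
          refine mul_mem ?_ (hAN hin)
          rw [commutatorElement_def]
          exact mul_mem ((inferInstance : N.Normal).conj_mem _ (hn q) y) (inv_mem (hn q))
        · rw [e] at h
          exact (mul_mem_cancel_right hin).1 h
      refine Finset.mem_coe.2 (Finset.mem_filter.2 ⟨Finset.mem_filter.2 ⟨Finset.mem_univ _, ?_⟩, hsqy⟩)
      exact fun h => hyN ((mul_mem_cancel_right (hn q)).1 h)
    · simp only at hyz
      have : (y : X ⧸ N) = (z : X ⧸ N) := by
        have h1 := congrArg (fun g : X => (g : X ⧸ N)) hyz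
        simpa [QuotientGroup.mk_mul_of_mem _ (hn _)] using h1
      rw [this] at hyz
      exact mul_right_cancel hyz
  have sA := Finset.card_nsmul_le_sum UA f _ bA
  have sN := Finset.card_nsmul_le_sum UN f _ bN
  have sO := Finset.sum_le_sum bO
  rw [Finset.sum_add_distrib, Finset.sum_add_distrib, Finset.sum_ite_mem, Finset.sum_ite_mem,
    Finset.sum_const, Finset.sum_const, Finset.sum_const,
    Finset.inter_eq_right.2 (Finset.filter_subset _ _),
    Finset.inter_eq_right.2 (Finset.filter_subset _ _)] at sO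
  simp only [smul_eq_mul] at sA sN sO
  have hBB' : B.card * a ≤ B4.card * a := Nat.mul_le_mul_right a hBB
  have hs : UA.card * (24 * a) + UN.card * (4 * a) + UO.card * (3 * a) ≤
      Nat.card (ConjClasses X) * Nat.card X := by
    rw [← sum_centralizer, ← split_sum]
    simp only [hf] at sA sN sO ⊢
    linarith
  rw [cA, cN, cO, hX, hN4] at hs
  have hs' : (4 * a) * (24 * a) ≤ Nat.card (ConjClasses X) * (24 * a) := by nlinarith
  have hapos : 0 < a := Nat.card_pos
  exact Nat.le_of_mul_le_mul_right hs' (by omega)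

end FourSectAux

open Subgroup in
/-- A section of order four. -/
theorem four_section {X : Type u} [Group X] [Finite X] (S : Sect X) {R : Type u} [CommRing R]
    [IsDomain R] (χ : S.A →* R) (hχ : Function.Injective χ) (h4 : S.A.relIndex S.N = 4) :
    S.N.relIndex S.C ≤ 4 ∨
      (S.N.relIndex S.C = 6 ∧ 4 * Nat.card S.A ≤ Nat.card (ConjClasses S.C)) := by
  classical
  have hQ4 : Nat.card (Additive S.Q) = 4 := h4
  letI : MulAction S.C {m : Additive S.Q // m ≠ 0} :=
    { smul := fun g m => ⟨(g : X) • (m : Additive S.Q), fun h => m.2 ((smul_eq_zero_iff_eq _).1 h)⟩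
      one_smul := fun m => Subtype.ext (one_smul X (m : Additive S.Q))
      mul_smul := fun g h m => Subtype.ext (mul_smul (g : X) h (m : Additive S.Q)) }
  let φ := MulAction.toPermHom S.C {m : Additive S.Q // m ≠ 0}
  have hker : φ.ker = S.N.subgroupOf S.C := by
    ext g
    rw [MonoidHom.mem_ker, mem_subgroupOf, ← S.C_inf_K χ hχ, mem_inf]
    constructor
    · intro h
      refine ⟨g.2, S.fixed_iff.1 fun m => ?_⟩
      by_cases hm : m = 0
      · rw [hm, smul_zero]
      · exact congrArg Subtype.val (Equiv.congr_fun h ⟨m, hm⟩)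
    · intro h
      exact Equiv.ext fun m => Subtype.ext (S.fixed_iff.2 h.2 m)
  have h6 : S.N.relIndex S.C ∣ 6 := by
    rw [relIndex, ← hker, index_ker]
    refine dvd_trans (card_subgroup_dvd_card _) ?_
    rw [Nat.card_perm]
    haveI : Fintype (Additive S.Q) := Fintype.ofFinite _
    rw [Nat.card_eq_fintype_card, Fintype.card_subtype_compl, Fintype.card_subtype_eq,
      ← Nat.card_eq_fintype_card, hQ4]
    exact dvd_rfl
  rcases Nat.lt_or_ge (S.N.relIndex S.C) 5 with h5 | h5
  · exact Or.inl (by omega)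
  have hh : S.N.relIndex S.C = 6 := by
    have := Nat.le_of_dvd (by norm_num) h6
    interval_cases S.N.relIndex S.C <;> first | rfl | (norm_num at h6)
  refine Or.inr ⟨hh, ?_⟩
  have hsq : ∀ x ∈ S.N, x ^ 2 ∈ S.A := by
    intro x hx
    by_contra hx2
    set q : S.Q := ((⟨x, hx⟩ : S.N) : S.Q) with hq
    have hq2 : q ^ 2 ≠ 1 := by
      rw [hq, ← QuotientGroup.mk_pow]
      intro h
      exact hx2 (mem_subgroupOf.1 ((QuotientGroup.eq_one_iff _).1 h))
    have ho : orderOf q = 4 := by
      have hd : orderOf q ∣ 4 := by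
        have := orderOf_dvd_natCard q
        rwa [show Nat.card S.Q = 4 from h4] at this
      have hle := Nat.le_of_dvd (by norm_num) hd
      have h0 := orderOf_pos q
      interval_cases hn : orderOf q
      · exact absurd (orderOf_dvd_iff_pow_eq_one.1 (by rw [hn]; norm_num)) hq2
      · exact absurd (orderOf_dvd_iff_pow_eq_one.1 (by rw [hn])) hq2
      · norm_num at hd
      · rfl
    have htop : zpowers q = ⊤ :=
      eq_top_of_card_eq _ (by rw [Nat.card_zpowers, ho]; exact h4.symm)
    have hdec : ∀ y ∈ S.N, ∃ i : ℤ, ∃ b ∈ S.A, y = x ^ i * b := by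
      intro y hy
      obtain ⟨i, hi⟩ := mem_zpowers_iff.1 (htop ▸ mem_top ((⟨y, hy⟩ : S.N) : S.Q) :
        ((⟨y, hy⟩ : S.N) : S.Q) ∈ zpowers q)
      rw [hq, ← QuotientGroup.mk_zpow, QuotientGroup.eq, mem_subgroupOf] at hi
      refine ⟨i, (x ^ i)⁻¹ * y, by simpa using hi, by group⟩
    have hab : ∀ y ∈ S.N, ∀ z ∈ S.N, y * z = z * y := by
      intro y hy z hz
      obtain ⟨i, b, hb, rfl⟩ := hdec y hy
      obtain ⟨j, c, hc, rfl⟩ := hdec z hz
      have h1 : Commute b x := S.comm_A hb (S.hNC hx)
      have h2 : Commute c x := S.comm_A hc (S.hNC hx)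
      have h3 : Commute b c := S.comm_A hb (S.A_le_C hc)
      exact (((Commute.refl x).zpow_zpow i j).mul_left (h1.zpow_right j)).mul_right
        ((h2.symm.zpow_left i).mul_left h3)
    have := S.hmax S.N S.hN S.hAN hab
    rw [this, relIndex_self] at h4
    norm_num at h4
  have hA2 : Nat.card {a : S.A.subgroupOf S.C // a ^ 2 = 1} ≤ 2 := by
    refine le_trans (Nat.card_le_card_of_injective
      (fun a => decide (χ ⟨((a.1 : S.C) : X), mem_subgroupOf.1 a.1.2⟩ = 1)) ?_)
      (by rw [Nat.card_eq_fintype_card, Fintype.card_bool])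
    intro a b hab
    have hpm : ∀ a : {a : S.A.subgroupOf S.C // a ^ 2 = 1},
        χ ⟨((a.1 : S.C) : X), mem_subgroupOf.1 a.1.2⟩ = 1 ∨
          χ ⟨((a.1 : S.C) : X), mem_subgroupOf.1 a.1.2⟩ = -1 := fun a => by
      rw [← sq_eq_one_iff, ← map_pow]
      convert map_one χ
      exact Subtype.ext (congrArg (fun z : S.A.subgroupOf S.C => ((z : S.C) : X)) a.2)
    have hab' : χ ⟨((a.1 : S.C) : X), mem_subgroupOf.1 a.1.2⟩ =
        χ ⟨((b.1 : S.C) : X), mem_subgroupOf.1 b.1.2⟩ := by
      simp only [decide_eq_decide] at hab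
      rcases hpm a with h | h <;> rcases hpm b with h' | h'
      · rw [h, h']
      · rw [h, hab.1 h]
      · rw [h', hab.2 h']
      · rw [h, h']
    exact Subtype.ext (Subtype.ext (Subtype.ext (congrArg Subtype.val (hχ hab') :)))
  haveI := S.hN
  have key := FourSectAux.four_le_classes (S.A.subgroupOf S.C) (S.N.subgroupOf S.C)
    (fun z hz => mem_subgroupOf.2 (S.hAN (mem_subgroupOf.1 hz)))
    (fun z hz => mem_center_iff.2 fun g =>
      Subtype.ext (S.comm_A (mem_subgroupOf.1 hz) g.2).symm)
    (by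
      rw [Nat.card_congr (subgroupOfEquivOfLe S.hNC).toEquiv,
        Nat.card_congr (subgroupOfEquivOfLe S.A_le_C).toEquiv, ← h4, mul_comm, relIndex,
        ← Nat.card_congr (subgroupOfEquivOfLe S.hAN).toEquiv, card_mul_index])
    (by rw [← hh, relIndex, mul_comm, card_mul_index])
    (fun z hz => mem_subgroupOf.2 (by simpa using hsq _ (mem_subgroupOf.1 hz)))
    hA2
    (fun z hz => by
      by_contra hno
      push Not at hno
      refine hz (mem_subgroupOf.2 (S.C_inf_K χ hχ ▸ mem_inf.2 ⟨z.2, fun w hw => ?_⟩))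
      exact mem_subgroupOf.1 (hno ⟨w, S.hNC hw⟩ (mem_subgroupOf.2 hw)))
    (fun m hm n hn => mem_subgroupOf.2 (S.hNN _ (mem_subgroupOf.1 hm) _ (mem_subgroupOf.1 hn)))
  rwa [Nat.card_congr (subgroupOfEquivOfLe S.A_le_C).toEquiv] at key

end CfsgLib.Sharp
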