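import Cfsg.Agent.Lib.FgsC.ClassBound.Imprimitive
import Cfsg.Agent.Lib.FgsC.BaseTwo.Primitive
import Cfsg.Agent.Lib.FgsC.BaseTwo.Quot

/-!
# Soluble completely reducible linear groups over the field of two elements in dimension at most six
-/

set_option autoImplicit false
set_option linter.unusedSectionVars false
set_option linter.style.haveILetI false

universe u

namespace CfsgLib.Sharp

open CfsgLib.BaseTwo CfsgLib.ClassBound MulAction
open scoped commutatorElement

/-- Bounds for the orders in dimensions up to six. -/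
def bdTwo (n : ℕ) : ℕ := [1, 1, 6, 21, 72, 155, 1296].getD n 0

namespace TwoBound

/-- The statement in dimension `n`. -/
def Bound (n : ℕ) : Prop :=
  ∀ (X : Type u) [Group X] [Finite X] (V : Type u) [AddCommGroup V] [Finite V] [DistribMulAction X V]
    [FaithfulSMul X V], Group.IsSolvable X → Semisimple X V → (∀ v : V, v + v = 0) → n ≤ 6 →
      Nat.card V = 2 ^ n → Nat.card X ≤ bdTwo n

theorem arith_split : ∀ n, n ≤ 6 → ∀ a, a ≤ n → 1 ≤ a → a < n → bdTwo a * bdTwo (n - a) ≤ bdTwo n := by
  decide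

theorem arith_wreath : ∀ t, t ≤ 6 → ∀ a, a ≤ 6 → 2 ≤ t → 1 ≤ a → a * t ≤ 6 →
    t.factorial * bdTwo a ^ t ≤ bdTwo (a * t) := by
  decide +kernel

theorem arith_field {A d c i f m s : ℕ} (hf : 1 ≤ f) (hm : 1 ≤ m) (hfm : f * m ≤ 6) (hA : A ∣ 2 ^ f - 1)
    (hd : d = s ^ 2) (hdm : d ≤ m ^ 2) (hd0 : 0 < d) (hpr : ∀ l, l.Prime → l ∣ d → l ∣ A)
    (hc1 : d = 1 → c ≤ 1) (hc9 : d = 9 → c ≤ 24) (hi : i ≤ f) : A * d * c * i ≤ bdTwo (f * m) := by
  have hpos : 0 < 2 ^ f - 1 := by have := Nat.lt_two_pow_self (n := f); omega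
  have hA' : A ≤ 2 ^ f - 1 := Nat.le_of_dvd hpos hA
  have hodd : ¬ 2 ∣ A := fun h => by
    have h1 := h.trans hA
    have h2 : 2 ∣ 2 ^ f := dvd_pow_self 2 (by omega)
    omega
  have hcases : d = 1 ∨ (f = 2 ∧ m = 3 ∧ d = 9) := by
    by_cases hd1 : d = 1
    · exact Or.inl hd1
    right
    have hsm : s ≤ m := (Nat.pow_le_pow_iff_left two_ne_zero).1 (hd ▸ hdm)
    have hs2 : 2 ≤ s := by
      by_contra hlt
      interval_cases s <;> simp_all
    obtain ⟨l, hl, hls⟩ := Nat.exists_prime_and_dvd (show s ≠ 1 by omega)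
    have hlA := hpr l hl (hd ▸ dvd_pow hls two_ne_zero)
    have hl2 : l ≠ 2 := fun e => hodd (e ▸ hlA)
    have hl3 : 3 ≤ l := by have := hl.two_le; omega
    have hls' : l ≤ s := Nat.le_of_dvd (by omega) hls
    have hm3 : 3 ≤ m := by omega
    have hlq : l ≤ 2 ^ f - 1 := Nat.le_of_dvd hpos (hlA.trans hA)
    have hf2 : f ≤ 2 := by
      by_contra hlt
      have := Nat.mul_le_mul (show 3 ≤ f by omega) hm3
      omega
    interval_cases f
    · omega
    · obtain rfl : m = 3 := by omega
      obtain rfl : s = 3 := by omega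
      exact ⟨rfl, rfl, by rw [hd]; norm_num⟩
  rcases hcases with rfl | ⟨rfl, rfl, rfl⟩
  · have h1 := hc1 rfl
    calc A * 1 * c * i ≤ (2 ^ f - 1) * 1 * 1 * f := by
          exact Nat.mul_le_mul (Nat.mul_le_mul (Nat.mul_le_mul hA' le_rfl) h1) hi
      _ ≤ _ := by
          have : ∀ f, f ≤ 6 → ∀ m, m ≤ 6 → 1 ≤ f → 1 ≤ m → f * m ≤ 6 →
              (2 ^ f - 1) * 1 * 1 * f ≤ bdTwo (f * m) := by decide +kernel
          exact this f ((Nat.le_mul_of_pos_right f hm).trans hfm) m
            ((Nat.le_mul_of_pos_left m hf).trans hfm) hf hm hfm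
  · have h9 := hc9 rfl
    calc A * 9 * c * i ≤ (2 ^ 2 - 1) * 9 * 24 * 2 :=
          Nat.mul_le_mul (Nat.mul_le_mul (Nat.mul_le_mul hA' le_rfl) h9) hi
      _ ≤ _ := by decide

/-- The endomorphisms induced by the group. -/
def img (X : Type u) [Group X] (U : Type u) [AddCommGroup U] [DistribMulAction X U] :
    X →* (AddMonoid.End U)ˣ :=
  (rho : X →* AddMonoid.End U).toHomUnits

section Img

variable (X : Type u) [Group X] [Finite X] (U : Type u) [AddCommGroup U] [Finite U] [DistribMulAction X U]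

instance finite_end : Finite (AddMonoid.End U) :=
  Finite.of_injective (fun f : AddMonoid.End U => (f : U → U)) DFunLike.coe_injective

instance img_faithful : FaithfulSMul (img X U).range U :=
  ⟨fun {a b} h => Subtype.ext (Units.ext (DFunLike.ext _ _ h))⟩

theorem img_bound {a : ℕ} (h : Bound.{u} a) (hs : Group.IsSolvable X) (hss : Semisimple X U)
    (h2 : ∀ v : U, v + v = 0) (ha : a ≤ 6) (hcard : Nat.card U = 2 ^ a) :
    Nat.card (img X U).range ≤ bdTwo a := by
  haveI := hs
  refine h (img X U).range U (solvable_of_surjective (img X U).rangeRestrict_surjective) ?_ h2 ha hcard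
  intro W hW
  obtain ⟨W', hW', hi, hj⟩ := hss W fun x v hv => hW ⟨img X U x, x, rfl⟩ v hv
  exact ⟨W', by rintro ⟨_, x, rfl⟩ w hw; exact hW' x w hw, hi, hj⟩

end Img

section Sub

variable {X : Type u} [Group X] {V : Type u} [AddCommGroup V] [DistribMulAction X V]

/-- The action on an invariant subgroup. -/
@[reducible] def subAct (U : AddSubgroup V) (hU : ∀ x : X, ∀ v ∈ U, x • v ∈ U) : DistribMulAction X U where
  smul x v := ⟨x • (v : V), hU x v v.2⟩
  one_smul v := Subtype.ext (one_smul X (v : V))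
  mul_smul x y v := Subtype.ext (mul_smul x y (v : V))
  smul_zero x := Subtype.ext (smul_zero x)
  smul_add x v w := Subtype.ext (smul_add x (v : V) (w : V))

theorem semisimple_sub (hss : Semisimple X V) (U : AddSubgroup V) (hU : ∀ x : X, ∀ v ∈ U, x • v ∈ U) :
    letI := subAct U hU
    Semisimple X U := by
  letI := subAct U hU
  intro W hW
  have hWV : ∀ x : X, ∀ v ∈ W.map U.subtype, x • v ∈ W.map U.subtype := by
    rintro x _ ⟨w, hw, rfl⟩
    exact ⟨x • w, hW x w hw, rfl⟩
  obtain ⟨W', hW', hi, hj⟩ := hss _ hWV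
  refine ⟨W'.addSubgroupOf U, fun x w hw => hW' x w hw, ?_, ?_⟩
  · rw [AddSubgroup.eq_bot_iff_forall]
    intro w hw
    obtain ⟨hw1, hw2⟩ := AddSubgroup.mem_inf.1 hw
    have : (w : V) ∈ W.map U.subtype ⊓ W' := AddSubgroup.mem_inf.2 ⟨⟨w, hw1, rfl⟩, hw2⟩
    rw [hi, AddSubgroup.mem_bot] at this
    exact Subtype.ext this
  · rw [AddSubgroup.eq_top_iff']
    intro v
    obtain ⟨_, ⟨w, hw, rfl⟩, w', hw', hsum⟩ :=
      AddSubgroup.mem_sup.1 (show (v : V) ∈ W.map U.subtype ⊔ W' by rw [hj]; exact AddSubgroup.mem_top _)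
    refine AddSubgroup.mem_sup.2 ⟨w, hw, v - w, ?_, add_sub_cancel _ _⟩
    show ((v - w : U) : V) ∈ W'
    rw [AddSubgroup.coe_sub, ← hsum]
    simpa using hw'

end Sub

theorem semisimple_of_irred {X : Type u} [Group X] {V : Type u} [AddCommGroup V] [DistribMulAction X V]
    (h : Irred X V) : Semisimple X V := by
  intro U hU
  rcases h U hU with rfl | rfl
  · exact ⟨⊤, fun _ _ _ => AddSubgroup.mem_top _, bot_inf_eq _, bot_sup_eq _⟩
  · exact ⟨⊥, fun x w hw => by rw [AddSubgroup.mem_bot.1 hw, smul_zero]; exact zero_mem _,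
      inf_bot_eq _, sup_bot_eq _⟩

section Sect

variable {X : Type u} [Group X] [Finite X] (S : Sect X) {R : Type u} [CommRing R] [IsDomain R]
  (χ : S.A →* R) (hχ : Function.Injective χ)

include χ hχ in
/-- The symplectic group of the plane over three elements has order at most twenty four. -/
theorem relIndex_nine (hd : S.A.relIndex S.N = 9) : S.N.relIndex S.C ≤ 24 := by
  classical
  have hQ : Nat.card (Additive S.Q) = 9 := hd
  haveI : Nontrivial (Additive S.Q) := Finite.one_lt_card_iff_nontrivial.1 (by rw [hQ]; norm_num)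
  obtain ⟨e1, he1⟩ := exists_ne (0 : Additive S.Q)
  obtain ⟨e2, he2⟩ : ∃ k, S.beta e1 k ≠ 0 := by
    by_contra h
    push Not at h
    exact he1 (S.beta_nondegenerate h)
  let a0 := S.beta e1 e2
  have hsmall : ∀ H : AddSubgroup (Additive S.Q), H ≠ ⊤ → Nat.card H ≤ 3 := by
    intro H hH
    have hdvd : Nat.card H ∣ 9 := hQ ▸ H.card_addSubgroup_dvd_card
    have hne : Nat.card H ≠ 9 := fun h => hH ((AddSubgroup.card_eq_iff_eq_top H).1 (h.trans hQ.symm))
    have := Nat.le_of_dvd (by norm_num) hdvd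
    interval_cases (Nat.card H) <;> simp_all
  have hgen : AddSubgroup.closure ({e1, e2} : Set (Additive S.Q)) = ⊤ := by
    by_contra hne
    set H := AddSubgroup.closure ({e1, e2} : Set (Additive S.Q)) with hH
    have hle : AddSubgroup.zmultiples e1 ≤ H :=
      AddSubgroup.zmultiples_le.2 (AddSubgroup.subset_closure (Or.inl rfl))
    have h2 : 2 ≤ Nat.card (AddSubgroup.zmultiples e1) := by
      haveI : Nontrivial (AddSubgroup.zmultiples e1) :=
        ⟨⟨⟨e1, AddSubgroup.mem_zmultiples e1⟩, 0, fun h => he1 (congrArg Subtype.val h)⟩⟩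
      exact Finite.one_lt_card
    have hdvd : Nat.card (AddSubgroup.zmultiples e1) ∣ 9 := hQ ▸ AddSubgroup.card_addSubgroup_dvd_card _
    have h3 : 3 ≤ Nat.card (AddSubgroup.zmultiples e1) := by
      by_contra hlt
      have : Nat.card (AddSubgroup.zmultiples e1) = 2 := by omega
      rw [this] at hdvd
      norm_num at hdvd
    have he : AddSubgroup.zmultiples e1 = H :=
      AddSubgroup.eq_of_le_of_card_ge hle ((hsmall H hne).trans h3)
    obtain ⟨k, hk⟩ := AddSubgroup.mem_zmultiples_iff.1
      (he.symm ▸ AddSubgroup.subset_closure (Or.inr rfl) : e2 ∈ AddSubgroup.zmultiples e1)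
    exact he2 (by rw [← hk, map_zsmul, S.beta_self, smul_zero])
  haveI := S.hN
  haveI := Fintype.ofFinite (Additive S.Q)
  let T : Finset (Additive S.Q × Additive S.Q) := Finset.univ.filter fun p => S.beta p.1 p.2 = a0
  let Φ : S.C ⧸ S.N.subgroupOf S.C → T := fun c =>
    ⟨((c.out : X) • e1, (c.out : X) • e2), Finset.mem_filter.2 ⟨Finset.mem_univ _, S.beta_smul c.out.2 e1 e2⟩⟩
  have hΦ : Function.Injective Φ := by
    intro c c' h
    rw [← QuotientGroup.out_eq' c, ← QuotientGroup.out_eq' c', QuotientGroup.eq, Subgroup.mem_subgroupOf]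
    obtain ⟨h1, h2⟩ := Prod.ext_iff.1 (congrArg Subtype.val h)
    refine (S.C_inf_K χ hχ).le (Subgroup.mem_inf.2 ⟨(c.out⁻¹ * c'.out).2, S.fixed_iff.1 fun m => ?_⟩)
    have hm : m ∈ AddSubgroup.closure ({e1, e2} : Set (Additive S.Q)) := hgen ▸ AddSubgroup.mem_top m
    induction hm using AddSubgroup.closure_induction with
    | mem y hy =>
      rw [Subgroup.coe_mul, Subgroup.coe_inv, mul_smul, inv_smul_eq_iff]
      rcases hy with rfl | rfl
      · exact h1.symm
      · exact h2.symm
    | zero => rw [smul_zero]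
    | add a b _ _ ha hb => rw [smul_add, ha, hb]
    | neg a _ ha => rw [smul_neg, ha]
  refine (Nat.card_le_card_of_injective Φ hΦ).trans ?_
  rw [Nat.card_eq_fintype_card, Fintype.card_coe]
  refine (Finset.card_le_mul_card_image T (f := Prod.fst) 3 fun u _ => ?_).trans ?_
  · rcases (T.filter fun p => p.1 = u).eq_empty_or_nonempty with h | ⟨⟨u', w0⟩, hw0⟩
    · simp [h]
    simp only [T, Finset.mem_filter, Finset.mem_univ, true_and] at hw0
    obtain ⟨hw0, rfl⟩ := hw0
    have hne : (S.beta u').ker ≠ ⊤ := fun h => he2 (by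
      have hz : S.beta u' w0 = 0 := AddMonoidHom.mem_ker.1 (h ▸ AddSubgroup.mem_top w0)
      rw [show S.beta e1 e2 = a0 from rfl, ← hw0, hz])
    refine le_trans ?_ (hsmall _ hne)
    rw [← Fintype.card_coe, ← Nat.card_eq_fintype_card]
    refine Nat.card_le_card_of_injective (fun p => ⟨p.1.2 - w0, ?_⟩) fun p q h => ?_
    · obtain ⟨hp1, hp2⟩ := Finset.mem_filter.1 p.2
      simp only [T, Finset.mem_filter, Finset.mem_univ, true_and] at hp1
      rw [AddMonoidHom.mem_ker, map_sub, hw0, sub_eq_zero]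
      rwa [hp2] at hp1
    · obtain ⟨-, hp2⟩ := Finset.mem_filter.1 p.2
      obtain ⟨-, hq2⟩ := Finset.mem_filter.1 q.2
      exact Subtype.ext (Prod.ext (hp2.trans hq2.symm) (sub_left_injective (congrArg Subtype.val h)))
  · have himg : T.image Prod.fst ⊆ Finset.univ.erase 0 := by
      intro u hu
      obtain ⟨p, hp, rfl⟩ := Finset.mem_image.1 hu
      refine Finset.mem_erase.2 ⟨fun h => he2 ?_, Finset.mem_univ _⟩
      rw [show S.beta e1 e2 = a0 from rfl, ← (Finset.mem_filter.1 hp).2, h, map_zero, AddMonoidHom.zero_apply]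
    have h8 := Finset.card_le_card himg
    rw [Finset.card_erase_of_mem (Finset.mem_univ _), Finset.card_univ, ← Nat.card_eq_fintype_card, hQ] at h8
    omega

include χ hχ in
theorem relIndex_one (hd : S.A.relIndex S.N = 1) : S.N.relIndex S.C ≤ 1 :=
  (chain_le S χ hχ 0 (by rw [hd]; norm_num)).trans (by simp [phi])

end Sect

/-- The field case. -/
theorem field_case {X : Type u} [Group X] [Finite X] {V : Type u} [AddCommGroup V] [Finite V]
    [DistribMulAction X V] [FaithfulSMul X V] [Nontrivial V] (S : Sect X)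
    (hfld : ∀ x ∈ ring (V := V) S, x ≠ 0 → ∃ y ∈ ring S, x * y = 1) {n : ℕ} (hn : n ≤ 6)
    (hcard : Nat.card V = 2 ^ n) : Nat.card X ≤ bdTwo n := by
  classical
  haveI : Finite (AddMonoid.End V) :=
    Finite.of_injective (fun f : AddMonoid.End V => (f : V → V)) DFunLike.coe_injective
  letI : Field (ring (V := V) S) := (isField_ring S hfld).toField
  haveI : Module.Finite (ring (V := V) S) V := Module.Finite.of_finite
  set m := Module.finrank (ring (V := V) S) V with hm
  have hm1 : 1 ≤ m := Module.finrank_pos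
  have hVm : Nat.card V = Nat.card (ring (V := V) S) ^ m := Module.natCard_eq_pow_finrank
  have hq1 : 1 < Nat.card (ring (V := V) S) := Finite.one_lt_card
  obtain ⟨f, -, hf⟩ := (Nat.dvd_prime_pow Nat.prime_two).1
    (show Nat.card (ring (V := V) S) ∣ 2 ^ n by rw [← hcard, hVm]; exact dvd_pow_self _ (by omega))
  have hf1 : 1 ≤ f := by
    by_contra h
    rw [hf, show f = 0 by omega] at hq1
    norm_num at hq1
  have hfm : f * m = n := Nat.pow_right_injective le_rfl
    (show 2 ^ (f * m) = 2 ^ n by rw [pow_mul, ← hf, ← hVm, hcard])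
  let χ : S.A →* (ring (V := V) S) :=
    { toFun := fun a => ⟨rho (a : X), rho_mem S a.2⟩
      map_one' := Subtype.ext (map_one (rho : X →* AddMonoid.End V))
      map_mul' := fun a b => Subtype.ext (map_mul (rho : X →* AddMonoid.End V) (a : X) b) }
  have hχ : Function.Injective χ := fun a b h => Subtype.ext (rho_injective (congrArg Subtype.val h))
  have hA : Nat.card S.A ∣ 2 ^ f - 1 := by
    rw [← hf, ← Nat.card_units]
    exact Subgroup.card_dvd_of_injective χ.toHomUnits fun a b h => hχ (congrArg Units.val h)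
  obtain ⟨W, -, -, -, -, hsq⟩ := S.exists_sqrt χ hχ
  have hi : S.C.index ≤ f := (Nat.pow_le_pow_iff_right one_lt_two).1
    (hf ▸ two_pow_index_le S (isField_ring S hfld))
  have hprime : ∀ l, l.Prime → l ∣ S.A.relIndex S.N → l ∣ Nat.card S.A := by
    intro l hl hld
    haveI : Fact l.Prime := ⟨hl⟩
    obtain ⟨x, hx⟩ := exists_prime_addOrderOf_dvd_card' l (show l ∣ Nat.card (Additive S.Q) from hld)
    obtain ⟨k, hk⟩ : ∃ k, S.beta x k ≠ 0 := by
      by_contra h
      push Not at h
      have h0 := S.beta_nondegenerate h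
      rw [h0, addOrderOf_zero] at hx
      exact hl.one_lt.ne hx
    have ho : addOrderOf (S.beta x k) = l := addOrderOf_eq_prime (by
      rw [← AddMonoidHom.nsmul_apply, ← map_nsmul, ← hx, addOrderOf_nsmul_eq_zero, map_zero,
        AddMonoidHom.zero_apply]) hk
    exact ho ▸ (addOrderOf_dvd_natCard (S.beta x k) : _ ∣ Nat.card (Additive S.A))
  have hX : Nat.card X = Nat.card S.A * S.A.relIndex S.N * S.N.relIndex S.C * S.C.index := by
    rw [← Subgroup.relIndex_bot_left, Subgroup.relIndex_mul_relIndex _ _ _ bot_le S.hAN,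
      Subgroup.relIndex_mul_relIndex _ _ _ bot_le S.hNC, Subgroup.relIndex_mul_index bot_le,
      Subgroup.index_bot]
  rw [hX, ← hfm]
  exact arith_field hf1 hm1 (hfm.trans_le hn) hA hsq (card_sect_le S hfld) (Sect.relIndex_pos _ _)
    hprime (relIndex_one S χ hχ) (relIndex_nine S χ hχ) hi

/-- The imprimitive case. -/
theorem imprimitive_case {X : Type u} [Group X] [Finite X] {V : Type u} [AddCommGroup V] [Finite V]
    [DistribMulAction X V] [FaithfulSMul X V] (hs : Group.IsSolvable X) (hirr : Irred X V)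
    (h2 : ∀ v : V, v + v = 0) {n : ℕ} (hn : n ≤ 6) (hcard : Nat.card V = 2 ^ n)
    (ih : ∀ a, a < n → Bound.{u} a) {E : Type u} [Fintype E] [Nontrivial E] [MulAction X E]
    (e : E → V →+ V) (hid : ∀ i v, e i (e i v) = e i v) (horth : ∀ i j, i ≠ j → ∀ v, e i (e j v) = 0)
    (hsum : ∀ v, v = ∑ i, e i v) (hequiv : ∀ (x : X) i v, x • e i v = e (x • i) (x • v))
    (hne : ∀ i, ∃ v, e i v ≠ 0) : Nat.card X ≤ bdTwo n := by
  classical
  haveI := hs
  obtain ⟨i₀⟩ := (inferInstance : Nonempty E)
  have htr : ∀ j : E, ∃ x : X, x • i₀ = j := by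
    let U : AddSubgroup V :=
      { carrier := {v | ∀ j, (¬ ∃ x : X, x • i₀ = j) → e j v = 0}
        zero_mem' := fun j _ => map_zero (e j)
        add_mem' := fun {a b} ha hb j hj => by rw [map_add, ha j hj, hb j hj, add_zero]
        neg_mem' := fun {a} ha j hj => by rw [map_neg, ha j hj, neg_zero] }
    have hUinv : ∀ x : X, ∀ v ∈ U, x • v ∈ U := fun x v hv j hj => by
      have h := hequiv x (x⁻¹ • j) v
      rw [smul_inv_smul, hv (x⁻¹ • j) fun ⟨y, hy⟩ => hj ⟨x * y, by rw [mul_smul, hy, smul_inv_smul]⟩,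
        smul_zero] at h
      exact h.symm
    obtain ⟨v, hv⟩ := hne i₀
    rcases hirr U hUinv with h | h
    · have hmem : e i₀ v ∈ U := fun j hj => horth j i₀ (fun h => hj ⟨1, by rw [one_smul, h]⟩) v
      rw [h, AddSubgroup.mem_bot] at hmem
      exact absurd hmem hv
    · intro j
      by_contra hj
      obtain ⟨w, hw⟩ := hne j
      exact hw ((h ▸ AddSubgroup.mem_top w : w ∈ U) j hj)
  choose g hg using htr
  have H : Comp e i₀ g := ⟨hid, horth, hsum, hequiv, hg⟩
  let N := stabilizer X i₀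
  letI : DistribMulAction N (e i₀).range :=
    { smul := fun n u => ⟨(n : X) • (u : V), H.stab_smul (mem_stabilizer_iff.1 n.2) u.2⟩
      one_smul := fun u => Subtype.ext (one_smul X (u : V))
      mul_smul := fun n k u => Subtype.ext (mul_smul (n : X) (k : X) (u : V))
      smul_zero := fun n => Subtype.ext (smul_zero (n : X))
      smul_add := fun n u w => Subtype.ext (smul_add (n : X) (u : V) (w : V)) }
  have hirrN : Irred N (e i₀).range :=
    irred_of_components H hirr N fun x hx u => ⟨⟨x, mem_stabilizer_iff.2 hx⟩, rfl⟩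
  have hlt := H.card_lt hne
  obtain ⟨a, -, hacard⟩ := (Nat.dvd_prime_pow Nat.prime_two).1
    (show Nat.card (e i₀).range ∣ 2 ^ n by rw [← hcard]; exact AddSubgroup.card_addSubgroup_dvd_card _)
  set t := Nat.card E with ht
  have hat : a * t = n := Nat.pow_right_injective le_rfl
    (show 2 ^ (a * t) = 2 ^ n by rw [pow_mul, ← hacard, ← H.card_eq, hcard])
  have han : a < n := (Nat.pow_lt_pow_iff_right one_lt_two).1 (hacard ▸ hcard ▸ hlt)
  have ha1 : 1 ≤ a := by
    by_contra h
    rw [show a = 0 by omega, zero_mul] at hat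
    omega
  have ht2 : 2 ≤ t := Finite.one_lt_card
  have hb : Nat.card (img N (e i₀).range).range ≤ bdTwo a :=
    img_bound N (e i₀).range (ih a han) inferInstance (semisimple_of_irred hirrN)
      (fun v => Subtype.ext (h2 v)) (by omega) hacard
  let π := toPermHom X E
  have hK : ∀ x ∈ π.ker, ∀ c : E, x • c = c := fun x hx c => by
    exact congrArg (fun σ : Equiv.Perm E => σ c) hx
  have hmem : ∀ (x : π.ker) (c : E), (g c)⁻¹ * x * g c ∈ N := fun x c => by
    rw [mem_stabilizer_iff, mul_smul, mul_smul, H.rep, hK x x.2, inv_smul_eq_iff, H.rep]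
  let Ψ : π.ker → E → (img N (e i₀).range).range := fun x c =>
    (img N (e i₀).range).rangeRestrict ⟨_, hmem x c⟩
  have hinj : Function.Injective Ψ := by
    intro x y h
    refine Subtype.ext (FaithfulSMul.eq_of_smul_eq_smul (α := V) fun v => ?_)
    rw [H.sum v, Finset.smul_sum, Finset.smul_sum]
    refine Finset.sum_congr rfl fun c _ => ?_
    have h1 : ((g c)⁻¹ * x * g c) • ((g c)⁻¹ • e c v) = ((g c)⁻¹ * y * g c) • ((g c)⁻¹ • e c v) :=
      congrArg (fun k : (img N (e i₀).range).range =>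
        ((k • (⟨_, H.back_mem c v⟩ : (e i₀).range) : (e i₀).range) : V)) (congrFun h c)
    simp only [mul_smul, smul_inv_smul] at h1
    exact (smul_left_cancel_iff _).1 h1
  calc Nat.card X = Nat.card π.ker * π.ker.index := π.ker.card_mul_index.symm
    _ ≤ bdTwo a ^ t * t.factorial := by
        refine Nat.mul_le_mul ((Nat.card_le_card_of_injective Ψ hinj).trans ?_) ?_
        · rw [Nat.card_fun]
          exact Nat.pow_le_pow_left hb _
        · rw [Subgroup.index_ker, ht, ← Nat.card_perm]
          exact Nat.card_le_card_of_injective Subtype.val Subtype.val_injective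
    _ = t.factorial * bdTwo a ^ t := mul_comm _ _
    _ ≤ bdTwo n := by
        rw [← hat]
        refine arith_wreath t ?_ a (by omega) ht2 ha1 (by omega)
        calc t ≤ a * t := Nat.le_mul_of_pos_left _ ha1
          _ ≤ 6 := hat.trans_le hn

theorem bound : ∀ n, Bound.{u} n := by
  intro n
  induction n using Nat.strong_induction_on with
  | _ n ih =>
  intro X _ _ V _ _ _ _ hs hss h2 hn hcard
  classical
  haveI := hs
  rcases subsingleton_or_nontrivial V with hV | hV
  · have : Subsingleton X := ⟨fun x y => FaithfulSMul.eq_of_smul_eq_smul fun v : V => Subsingleton.elim _ _⟩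
    rw [Nat.card_unique] at hcard
    obtain rfl : n = 0 := by
      by_contra h
      have := Nat.one_lt_two_pow h
      omega
    exact Finite.card_le_one_iff_subsingleton.2 this
  by_cases hirr : Irred X V
  · obtain ⟨S⟩ := exists_sect X hs
    rcases field_or_decomp hirr (ring (V := V) S) (fun x hx y hy => ring_comm S hx hy)
        (fun a x hx => ring_normalized S a hx) with hfld |
      ⟨E, instF, instN, instA, e, he, heR, hconj, hid, horth, hsum, hne⟩
    · exact field_case S hfld hn hcard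
    · exact imprimitive_case hs hirr h2 hn hcard ih e hid horth hsum (fun x i v => by
        rw [hconj]
        exact congrArg (fun w => x • e i w) (inv_smul_smul x v).symm) hne
  · simp only [Irred, not_forall, not_or] at hirr
    obtain ⟨U, hU, hUb, hUt⟩ := hirr
    obtain ⟨W, hW, hi, hj⟩ := hss U hU
    have hWt : W ≠ ⊤ := fun h => hUb (by rw [h, inf_top_eq] at hi; exact hi)
    obtain ⟨a, -, hacard⟩ := (Nat.dvd_prime_pow Nat.prime_two).1
      (show Nat.card U ∣ 2 ^ n by rw [← hcard]; exact AddSubgroup.card_addSubgroup_dvd_card _)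
    obtain ⟨b, -, hbcard⟩ := (Nat.dvd_prime_pow Nat.prime_two).1
      (show Nat.card W ∣ 2 ^ n by rw [← hcard]; exact AddSubgroup.card_addSubgroup_dvd_card _)
    have hUW : Nat.card U * Nat.card W = Nat.card V := by
      rw [← Nat.card_prod]
      refine Nat.card_congr (Equiv.ofBijective (fun p : U × W => (p.1 : V) + (p.2 : V))
        ⟨fun p q h => ?_, fun v => ?_⟩)
      · have h' : (p.1 : V) + p.2 = q.1 + q.2 := h
        have hdiff : (p.1 : V) - q.1 = q.2 - p.2 := by
          rw [sub_eq_sub_iff_add_eq_add, h', add_comm]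
        have hm : (p.1 : V) - q.1 ∈ U ⊓ W := AddSubgroup.mem_inf.2
          ⟨U.sub_mem p.1.2 q.1.2, hdiff ▸ W.sub_mem q.2.2 p.2.2⟩
        rw [hi, AddSubgroup.mem_bot] at hm
        refine Prod.ext (Subtype.ext (sub_eq_zero.1 hm)) (Subtype.ext (sub_eq_zero.1 (hdiff ▸ hm)).symm)
      · obtain ⟨u, hu, w, hw, rfl⟩ := AddSubgroup.mem_sup.1 (hj ▸ AddSubgroup.mem_top v : v ∈ U ⊔ W)
        exact ⟨(⟨u, hu⟩, ⟨w, hw⟩), rfl⟩
    have hab : a + b = n := Nat.pow_right_injective le_rfl
      (show 2 ^ (a + b) = 2 ^ n by rw [pow_add, ← hacard, ← hbcard, hUW, hcard])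
    have ha : a < n := by
      refine (Nat.pow_lt_pow_iff_right one_lt_two).1 ?_
      rw [← hacard, ← hcard]
      exact lt_of_le_of_ne (Nat.card_le_card_of_injective _ Subtype.val_injective) fun h => hUt ((AddSubgroup.card_eq_iff_eq_top U).1 h)
    have hb : b < n := by
      refine (Nat.pow_lt_pow_iff_right one_lt_two).1 ?_
      rw [← hbcard, ← hcard]
      exact lt_of_le_of_ne (Nat.card_le_card_of_injective _ Subtype.val_injective) fun h => hWt ((AddSubgroup.card_eq_iff_eq_top W).1 h)
    letI := subAct U hU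
    letI := subAct W hW
    have h1 := img_bound X U (ih a ha) hs (semisimple_sub hss U hU) (fun v => Subtype.ext (h2 v)) (by omega) hacard
    have h2' := img_bound X W (ih b hb) hs (semisimple_sub hss W hW) (fun v => Subtype.ext (h2 v)) (by omega) hbcard
    have hinj : Function.Injective
        ((img X U).rangeRestrict.prod (img X W).rangeRestrict) := by
      intro x y h
      obtain ⟨hx1, hx2⟩ := Prod.ext_iff.1 h
      refine FaithfulSMul.eq_of_smul_eq_smul fun v : V => ?_
      obtain ⟨u, hu, w, hw, rfl⟩ := AddSubgroup.mem_sup.1 (hj ▸ AddSubgroup.mem_top v : v ∈ U ⊔ W)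
      rw [smul_add, smul_add]
      congr 1
      · exact congrArg (fun k : (img X U).range => ((k • (⟨u, hu⟩ : U) : U) : V)) hx1
      · exact congrArg (fun k : (img X W).range => ((k • (⟨w, hw⟩ : W) : W) : V)) hx2
    refine (Nat.card_le_card_of_injective _ hinj).trans ?_
    rw [Nat.card_prod]
    refine (Nat.mul_le_mul h1 h2').trans ?_
    rw [show b = n - a by omega]
    refine arith_split n hn a ha.le ?_ ha
    omega

theorem sect_bound {X : Type u} [Group X] [Finite X] (hs : Group.IsSolvable X) (S : Sect X) {R : Type u}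
    [CommRing R] [IsDomain R] (χ : S.A →* R) (hχ : Function.Injective χ) {k : ℕ} (hk : k ≤ 6)
    (hd : S.A.relIndex S.N = 2 ^ k) : S.N.relIndex S.C ≤ bdTwo k := by
  classical
  haveI : Fact (Nat.Prime 2) := ⟨Nat.prime_two⟩
  have hQ : Nat.card (Additive S.Q) = 2 ^ k := hd
  have hss := S.semisimpleQ χ hχ
  have hb := img_bound X (Additive S.Q) (bound k) hs hss
    (fun v => by rw [← two_nsmul]; exact nsmul_prime_eq_zero hss hQ v) hk hQ
  refine le_trans ?_ hb
  let θ := (img X (Additive S.Q)).rangeRestrict.comp S.C.subtype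
  have hker : θ.ker = S.N.subgroupOf S.C := by
    ext c
    rw [MonoidHom.mem_ker, Subgroup.mem_subgroupOf, ← S.C_inf_K χ hχ, Subgroup.mem_inf]
    refine ⟨fun h => ⟨c.2, S.fixed_iff.1 fun m => ?_⟩, fun h => ?_⟩
    · exact (congrArg (fun k : (img X (Additive S.Q)).range => k • m) h).trans (one_smul _ m)
    · refine FaithfulSMul.eq_of_smul_eq_smul fun m : Additive S.Q => ?_
      rw [one_smul]
      exact S.fixed_iff.2 h.2 m
  rw [Subgroup.relIndex, ← hker, Subgroup.index_ker]
  exact Nat.card_le_card_of_injective Subtype.val Subtype.val_injective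

end TwoBound

theorem two_bound {X : Type u} [Group X] [Finite X] {V : Type u} [AddCommGroup V] [Finite V] [DistribMulAction X V]
    [FaithfulSMul X V] (hs : Group.IsSolvable X) (hss : Semisimple X V) (h2 : ∀ v : V, v + v = 0)
    {n : ℕ} (hn : n ≤ 6) (hcard : Nat.card V = 2 ^ n) : Nat.card X ≤ bdTwo n :=
  TwoBound.bound n X V hs hss h2 hn hcard

theorem sect_sixteen {X : Type u} [Group X] [Finite X] (hs : Group.IsSolvable X) (S : Sect X) {R : Type u}
    [CommRing R] [IsDomain R] (χ : S.A →* R) (hχ : Function.Injective χ) (hd : S.A.relIndex S.N = 16) :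
    S.N.relIndex S.C ≤ 72 :=
  TwoBound.sect_bound hs S χ hχ (k := 4) (by norm_num) (by rw [hd]; norm_num)

theorem sect_sixtyfour {X : Type u} [Group X] [Finite X] (hs : Group.IsSolvable X) (S : Sect X) {R : Type u}
    [CommRing R] [IsDomain R] (χ : S.A →* R) (hχ : Function.Injective χ) (hd : S.A.relIndex S.N = 64) :
    S.N.relIndex S.C ≤ 1296 :=
  TwoBound.sect_bound hs S χ hχ (k := 6) (by norm_num) (by rw [hd]; norm_num)

end CfsgLib.Sharp
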