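import Cfsg.Agent.Lib.FgsC.Sharp.Ratio
import Cfsg.Agent.Lib.FgsC.Sharp.Chain
import Cfsg.Agent.Lib.FgsC.Sharp.FourSect
import Cfsg.Agent.Lib.FgsC.Sharp.TwoBound
import Cfsg.Agent.Lib.FgsC.ClassBound.Imprimitive
import Cfsg.Agent.Lib.FgsC.BaseTwo.Quot

/-!
# `|X| / k(X)` of an irreducible soluble group in dimension `n` over `ZMod p`, `p ≥ 11`
-/

set_option autoImplicit false

universe u

namespace CfsgLib.Sharp

open MulAction CfsgLib.BaseTwo CfsgLib.ClassBound
open scoped commutatorElement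

/-- The bound on `|X| / k(X)` in dimension `n`. -/
def Bd (p n : ℕ) (X : Type u) [Group X] : Prop :=
  (n = 1 → RB X 1 1) ∧
    (n = 2 → RB X 6 1 ∧ (RB X 17 3 ∨ ∃ z, z ∣ p - 1 ∧ Nat.card X = 24 * z ∧ 4 * z ≤ Nat.card (ConjClasses X))) ∧
    (3 ≤ n → RB X (59 * p ^ (n - 2)) 10)

variable {X : Type u} [Group X] [Finite X] {V : Type u} [AddCommGroup V] [Finite V] [DistribMulAction X V]

/-- A field, or components permuted primitively. -/
theorem field_or_imprimitive [Nontrivial V] (hirr : Irred X V) (S : Sect X) :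
    (∀ x ∈ ring (V := V) S, x ≠ 0 → ∃ y ∈ ring S, x * y = 1) ∨
      ∃ (Ω : Type u) (_ : Fintype Ω) (_ : Nontrivial Ω) (_ : MulAction X Ω), IsPreprimitive X Ω ∧
        ∃ (F : Ω → V →+ V) (c₀ : Ω) (g : Ω → X), Comp F c₀ g ∧ ∀ c, ∃ v, F c v ≠ 0 := by
  classical
  rcases field_or_decomp hirr (ring (V := V) S) (fun x hx y hy => ring_comm S hx hy)
      (fun a x hx => ring_normalized S a hx) with hfld |
    ⟨E, instF, instN, instA, e, he, heR, hconj, hid, horth, hsum, hne⟩
  · exact Or.inl hfld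
  have hequiv : ∀ (x : X) i v, x • e i v = e (x • i) (x • v) := fun x i v => by
    rw [hconj, cjEnd_apply, inv_smul_smul]
  obtain ⟨i₀⟩ := (inferInstance : Nonempty E)
  -- transitivity
  have htr : ∀ j : E, ∃ x : X, x • i₀ = j := by
    let U : AddSubgroup V :=
      { carrier := {v | ∀ j, (¬ ∃ x : X, x • i₀ = j) → e j v = 0}
        zero_mem' := fun j _ => map_zero (e j)
        add_mem' := fun {a b} ha hb j hj => by rw [map_add, ha j hj, hb j hj, add_zero]
        neg_mem' := fun {a} ha j hj => by rw [map_neg, ha j hj, neg_zero] }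
    have hUinv : ∀ x : X, ∀ v ∈ U, x • v ∈ U := fun x v hv j hj => by
      have h := hequiv x (x⁻¹ • j) v
      rw [smul_inv_smul, hv (x⁻¹ • j) fun ⟨y, hy⟩ => hj ⟨x * y, by rw [mul_smul, hy, smul_inv_smul]⟩,
        smul_zero] at h
      exact h.symm
    obtain ⟨v, hv⟩ := hne i₀
    rcases hirr U hUinv with h | h
    · have hmem : e i₀ v ∈ U := fun j hj => horth j i₀ (fun h => hj ⟨1, by rw [one_smul, h]⟩) v
      rw [h, AddSubgroup.mem_bot] at hmem
      exact absurd hmem hv
    · intro j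
      by_contra hj
      obtain ⟨w, hw⟩ := hne j
      exact hw ((h ▸ AddSubgroup.mem_top w : w ∈ U) j hj)
  choose x hx using htr
  obtain ⟨M, hM, hMle⟩ := (eq_top_or_exists_le_coatom (stabilizer X i₀)).resolve_left (fun h => by
    obtain ⟨j, hj⟩ := exists_ne i₀
    refine hj ?_
    rw [← hx j, mem_stabilizer_iff.1 (show x j ∈ stabilizer X i₀ by rw [h]; trivial)])
  haveI : Nontrivial (X ⧸ M) := by
    by_contra h
    rw [not_nontrivial_iff_subsingleton] at h
    exact hM.1 (Subgroup.index_eq_one.1 ((Subgroup.index_eq_card M).trans Nat.card_unique))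
  letI := Fintype.ofFinite (X ⧸ M)
  have hprim : IsPreprimitive X (X ⧸ M) := by
    rw [← isCoatom_stabilizer_iff_preprimitive X ((1 : X) : X ⧸ M), stabilizer_quotient]
    exact hM
  let π : E → X ⧸ M := fun i => (x i : X ⧸ M)
  have hπ : ∀ (a : X) i, π (a • i) = a • π i := fun a i => by
    refine QuotientGroup.eq.2 (hMle (mem_stabilizer_iff.2 ?_))
    show ((x (a • i))⁻¹ * (a * x i)) • i₀ = i₀
    rw [mul_smul, mul_smul, hx, inv_smul_eq_iff, hx]
  let F : X ⧸ M → V →+ V := fun c => ∑ i ∈ Finset.univ.filter (fun i => π i = c), e i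
  have hF : ∀ c v, F c v = ∑ i ∈ Finset.univ.filter (fun i => π i = c), e i v :=
    fun c v => AddMonoidHom.finsetSum_apply _ _ _
  have heF : ∀ i c v, e i (F c v) = if π i = c then e i v else 0 := fun i c v => by
    rw [hF, map_sum]
    split_ifs with h
    · rw [Finset.sum_eq_single i (fun j _ hj => horth i j hj.symm v) (fun h' => absurd (by simp [h]) h'), hid]
    · exact Finset.sum_eq_zero fun j hj => horth i j (fun e' => h (e' ▸ (Finset.mem_filter.1 hj).2)) v
  let g : X ⧸ M → X := fun c => c.out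
  have hcomp : Comp F ((1 : X) : X ⧸ M) g := by
    refine ⟨fun c v => ?_, fun c d hcd v => ?_, fun v => ?_, fun a c v => ?_, fun c => ?_⟩
    · rw [hF c (F c v)]
      refine (Finset.sum_congr rfl fun i hi => ?_).trans (hF c v).symm
      rw [heF, if_pos (Finset.mem_filter.1 hi).2]
    · rw [hF]
      exact Finset.sum_eq_zero fun i hi => by
        rw [heF, if_neg fun h => hcd ((Finset.mem_filter.1 hi).2.symm.trans h)]
    · conv_lhs => rw [hsum v, ← Finset.sum_fiberwise Finset.univ π]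
      exact Finset.sum_congr rfl fun c _ => (hF c v).symm
    · rw [hF, hF, Finset.smul_sum]
      refine Finset.sum_bij (fun i _ => a • i) (fun i hi => ?_) (fun i _ j _ h => smul_left_cancel a h)
        (fun j hj => ⟨a⁻¹ • j, ?_, smul_inv_smul a j⟩) fun i _ => hequiv a i v
      · exact Finset.mem_filter.2 ⟨Finset.mem_univ _, by rw [hπ, (Finset.mem_filter.1 hi).2]⟩
      · exact Finset.mem_filter.2 ⟨Finset.mem_univ _, by rw [hπ, (Finset.mem_filter.1 hj).2, inv_smul_smul]⟩
    · show ((c.out * 1 : X) : X ⧸ M) = c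
      rw [mul_one]
      exact QuotientGroup.out_eq' c
  have hsurj : Function.Surjective π := fun c => ⟨c.out • i₀, by
    refine (QuotientGroup.eq.2 (hMle (mem_stabilizer_iff.2 ?_))).trans (QuotientGroup.out_eq' c)
    rw [mul_smul, inv_smul_eq_iff, hx]⟩
  refine Or.inr ⟨X ⧸ M, inferInstance, inferInstance, inferInstance, hprim, F, _, g, hcomp, fun c => ?_⟩
  obtain ⟨i, rfl⟩ := hsurj c
  obtain ⟨v, hv⟩ := hne i
  refine ⟨v, fun h => hv ?_⟩
  have := heF i (π i) v
  rwa [if_pos rfl, h, map_zero, eq_comm] at this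

/-- The field case. -/
theorem bd_field [FaithfulSMul X V] [Nontrivial V] {p n : ℕ} (pp : p.Prime) (h11 : 11 ≤ p)
    (hs : Group.IsSolvable X) (hcard : Nat.card V = p ^ n) (S : Sect X)
    (hfld : ∀ x ∈ ring (V := V) S, x ≠ 0 → ∃ y ∈ ring S, x * y = 1) : Bd p n X := by
  classical
  haveI : Finite (AddMonoid.End V) :=
    Finite.of_injective (fun f : AddMonoid.End V => (f : V → V)) DFunLike.coe_injective
  letI : Field (ring (V := V) S) := (isField_ring S hfld).toField
  haveI : Module.Finite (ring (V := V) S) V := Module.Finite.of_finite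
  obtain ⟨r, hchar⟩ := CharP.exists (ring (V := V) S)
  haveI := hchar
  haveI : Fact r.Prime := ⟨CharP.char_is_prime (ring (V := V) S) r⟩
  letI : Algebra (ZMod r) (ring (V := V) S) := ZMod.algebra (ring (V := V) S) r
  haveI : Module.Finite (ZMod r) (ring (V := V) S) := Module.Finite.of_finite
  set f := Module.finrank (ZMod r) (ring (V := V) S) with hf
  set m := Module.finrank (ring (V := V) S) V with hm
  have hq : Nat.card (ring (V := V) S) = r ^ f := by
    rw [Module.natCard_eq_pow_finrank (K := ZMod r) (V := ring (V := V) S), Nat.card_zmod]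
  let χ : S.A →* (ring (V := V) S) :=
    { toFun := fun a => ⟨rho (a : X), rho_mem S a.2⟩
      map_one' := Subtype.ext (map_one (rho : X →* AddMonoid.End V))
      map_mul' := fun a b => Subtype.ext (map_mul (rho : X →* AddMonoid.End V) (a : X) b) }
  have hχ : Function.Injective χ := fun a b h => Subtype.ext (rho_injective (congrArg Subtype.val h))
  -- the field automorphisms
  let σ : X → (ring (V := V) S ≃+* ring (V := V) S) := fun g =>
    { toFun := fun x => ⟨cjEnd g x, ring_normalized S g x.2⟩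
      invFun := fun x => ⟨cjEnd g⁻¹ x, ring_normalized S g⁻¹ x.2⟩
      left_inv := fun x => Subtype.ext (by show cjEnd g⁻¹ (cjEnd g _) = _; rw [cjEnd_cjEnd, inv_mul_cancel, cjEnd_one])
      right_inv := fun x => Subtype.ext (by show cjEnd g (cjEnd g⁻¹ _) = _; rw [cjEnd_cjEnd, mul_inv_cancel, cjEnd_one])
      map_mul' := fun x y => Subtype.ext (cjEnd_mul g x.1 y.1)
      map_add' := fun x y => Subtype.ext (map_add (cjHom g) x.1 y.1) }
  let τ : X →* (ring (V := V) S ≃ₐ[ZMod r] ring (V := V) S) :=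
    MonoidHom.mk' (fun g => AlgEquiv.ofRingEquiv (f := σ g) fun x => RingHom.congr_fun (Subsingleton.elim
        ((σ g).toRingHom.comp (algebraMap (ZMod r) (ring (V := V) S))) (algebraMap (ZMod r) (ring (V := V) S))) x)
      fun g h => AlgEquiv.ext fun x => Subtype.ext (cjEnd_cjEnd g h x.1).symm
  have hker : τ.ker ≤ S.C := by
    intro g hg
    refine Subgroup.mem_centralizer_iff.2 fun a ha => ?_
    have h1 : cjEnd g (rho a : AddMonoid.End V) = rho a :=
      congrArg Subtype.val (AlgEquiv.congr_fun hg ⟨rho a, rho_mem S ha⟩)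
    have h2 : g * a * g⁻¹ = a := rho_injective (V := V) (by rw [← cjHom_rho]; exact h1)
    exact (mul_inv_eq_iff_eq_mul.1 h2).symm
  have hCf : S.C.index ≤ f := by
    refine le_trans (Nat.le_of_dvd (Nat.pos_of_ne_zero Subgroup.index_ne_zero_of_finite)
      (Subgroup.index_dvd_of_le hker)) ?_
    rw [Subgroup.index_ker]
    refine le_trans (Nat.card_le_card_of_injective Subtype.val Subtype.val_injective) ?_
    rw [Nat.card_eq_fintype_card]
    exact AlgEquiv.card_le
  have hf1 : 1 ≤ f := Module.finrank_pos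
  have hm1 : 1 ≤ m := Module.finrank_pos
  have hq' : Nat.card V = r ^ (f * m) := by
    rw [Module.natCard_eq_pow_finrank (K := ring (V := V) S) (V := V), hq, ← hm, ← pow_mul]
  obtain ⟨hrp, hn⟩ : r = p ∧ n = f * m := by
    have e : p ^ n = r ^ (f * m) := hcard.symm.trans hq'
    have hn0 : n ≠ 0 := fun h => by
      rw [h, pow_zero] at hcard
      exact Finite.one_lt_card.ne' hcard
    obtain rfl : r = p := ((Nat.prime_dvd_prime_iff_eq pp (Fact.out : r.Prime)).1
      (pp.dvd_of_dvd_pow (e ▸ dvd_pow_self p hn0))).symm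
    exact ⟨rfl, Nat.pow_right_injective pp.two_le e⟩
  subst hrp
  have hunits : ∀ z : S.A, orderOf z ∣ r ^ f - 1 := fun z => by
    rw [← orderOf_injective χ.toHomUnits (fun a b h => hχ (congrArg Units.val h)) z, ← hq, ← Nat.card_units]
    exact orderOf_dvd_natCard _
  have hA : Nat.card S.A ∣ r ^ f - 1 := by
    rw [← hq, ← Nat.card_units]
    exact Subgroup.card_dvd_of_injective χ.toHomUnits fun a b h => hχ (congrArg Units.val h)
  obtain ⟨W, -, -, -, -, hd⟩ := S.exists_sqrt χ hχ
  set e := S.A.relIndex W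
  have he0 : 1 ≤ e := Sect.relIndex_pos _ _
  have hem : e ≤ m := (Nat.pow_le_pow_iff_left two_ne_zero).1 (hd ▸ card_sect_le S hfld)
  haveI := S.hA
  haveI := S.hN
  set h := S.N.relIndex S.C
  have hY : S.A.relIndex S.C = e ^ 2 * h := by
    rw [← Subgroup.relIndex_mul_relIndex S.A S.N S.C S.hAN S.hNC, hd]
  have hh : e ≤ 9 → h ≤ hb e := fun he => by
    by_cases h4 : e = 4
    · rw [h4] at hd ⊢
      exact sect_sixteen hs S χ hχ (by rw [hd]; norm_num)
    by_cases h8 : e = 8
    · rw [h8] at hd ⊢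
      exact sect_sixtyfour hs S χ hχ (by rw [hd]; norm_num)
    refine le_trans ?_ (chiA_le_hb he h4 h8)
    rw [← hd]
    refine chain_chi S χ hχ 7 ?_
    rw [hd]
    exact (Nat.pow_le_pow_left he 2).trans (by norm_num)
  have hbig : e ^ 2 * h ≤ b m := by
    have hd' : S.A.relIndex S.N ≤ m ^ 2 := card_sect_le S hfld
    have h2m : S.A.relIndex S.N ≤ 2 ^ (2 * Nat.clog 2 m + 1) := hd'.trans (by
      calc m ^ 2 ≤ (2 ^ Nat.clog 2 m) ^ 2 := Nat.pow_le_pow_left (Nat.le_pow_clog (by norm_num) m) 2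
        _ = 2 ^ (2 * Nat.clog 2 m) := by rw [← pow_mul, mul_comm]
        _ ≤ _ := Nat.pow_le_pow_right (by norm_num) (Nat.le_succ _))
    rw [← hd]
    exact Nat.mul_le_mul hd' ((ClassBound.chain_le S χ hχ _ h2m).trans (phi_mono _ _ _ hd'))
  have hcent : ∀ a ∈ S.A.subgroupOf S.C, ∀ x : S.C, a * x = x * a :=
    fun a ha x => Subtype.ext (S.comm_A (Subgroup.mem_subgroupOf.1 ha) x.2)
  have hR1 : e = 1 → RB X (f ^ 2) 1 := fun he => by
    have h1 := hh (by omega)
    rw [he] at h1 hY
    have hh1 : h ≤ 1 := h1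
    have hC : S.C ≤ S.A := Subgroup.relIndex_eq_one.1
      (le_antisymm (by rw [hY]; omega) (Sect.relIndex_pos _ _))
    have hRC : RB S.C 1 1 := RB.of_comm fun x y => Subtype.ext (S.comm_A (hC x.2) y.2)
    exact hRC.of_index.mono one_pos (by simpa using Nat.pow_le_pow_left hCf 2)
  have hR : 2 ≤ e → RB X (f ^ 2 * (e ^ 2 * h + 1)) 3 := fun he => by
    have h1 : 2 ≤ (S.A.subgroupOf S.C).index := by
      show 2 ≤ S.A.relIndex S.C
      rw [hY]
      have : 2 * 1 ≤ e ^ 2 * h := Nat.mul_le_mul (le_trans he (Nat.le_self_pow two_ne_zero e)) (Sect.relIndex_pos _ _)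
      omega
    have hRC := (RB.of_central hcent h1).of_index
    rw [show (S.A.subgroupOf S.C).index = e ^ 2 * h from hY] at hRC
    refine hRC.mono (by norm_num) (Nat.mul_le_mul_right _ ?_)
    rw [mul_comm (f ^ 2)]
    exact Nat.mul_le_mul_left _ (Nat.pow_le_pow_left hCf 2)
  subst hn
  refine ⟨fun h1 => ?_, fun h2 => ?_, fun h3 => ?_⟩
  · obtain ⟨hf', hm'⟩ := mul_eq_one.1 h1
    exact (hR1 (by omega)).mono one_pos (by rw [hf']; norm_num)
  · rcases Nat.lt_or_ge e 2 with he | he
    · have hf2 : f ≤ 2 := Nat.le_of_dvd two_pos ⟨m, h2.symm⟩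
      have hf4 : f ^ 2 ≤ 4 := Nat.pow_le_pow_left hf2 2
      exact ⟨(hR1 (by omega)).mono one_pos (by omega), Or.inl ((hR1 (by omega)).mono one_pos (by omega))⟩
    have hm' : m = 2 := le_antisymm (Nat.le_of_dvd two_pos ⟨f, by rw [mul_comm]; exact h2.symm⟩) (by omega)
    have hf' : f = 1 := by rw [hm'] at h2; omega
    have he2 : e = 2 := by omega
    rw [hf', he2] at hR
    rcases four_section S χ hχ (by rw [hd, he2]; norm_num) with h4 | ⟨h6, hk⟩
    · have hh4 : h ≤ 4 := h4
      exact ⟨(hR le_rfl).mono (by norm_num) (by omega), Or.inl ((hR le_rfl).mono (by norm_num) (by omega))⟩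
    have hC24 : Nat.card S.C = 24 * Nat.card S.A := by
      rw [← Subgroup.card_mul_index (S.A.subgroupOf S.C), show (S.A.subgroupOf S.C).index = e ^ 2 * h from hY,
        he2, show h = 6 from h6, Nat.card_congr (Subgroup.subgroupOfEquivOfLe S.A_le_C).toEquiv, mul_comm]
      norm_num
    have hC1 : S.C.index = 1 :=
      le_antisymm (hf' ▸ hCf) (Nat.pos_of_ne_zero Subgroup.index_ne_zero_of_finite)
    have hX : Nat.card X = 24 * Nat.card S.A := by rw [← hC24, ← Subgroup.card_mul_index S.C, hC1, mul_one]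
    have h61 : RB X 6 1 := by
      have : RB S.C 6 1 := by
        unfold RB
        rw [hC24]
        omega
      simpa [hC1] using this.of_index
    refine ⟨h61, Or.inr ⟨Nat.card S.A, by simpa [hf'] using hA, hX, ?_⟩⟩
    unfold RB at h61
    omega
  · rcases Nat.lt_or_ge e 2 with he | he
    · exact (hR1 (by omega)).mono one_pos (by
        rw [mul_comm, mul_one]
        exact abelian_arith h11 (Nat.le_mul_of_pos_right _ hm1) h3)
    refine (hR he).mono (by norm_num) ?_
    rw [mul_comm _ 10, show 59 * r ^ (f * m - 2) * 3 = 177 * r ^ (f * m - 2) by ring]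
    refine field_arith h11 hf1 h3 hem he (fun he3 hf' => ?_) hh hbig
    -- a commutator of order three
    haveI := normal_subgroupOf S S.A le_rfl S.hAN
    obtain ⟨q, hq3⟩ := exists_prime_orderOf_dvd_card' (G := S.N ⧸ S.A.subgroupOf S.N) 3
      (by rw [← Subgroup.index_eq_card]; show 3 ∣ S.A.relIndex S.N; rw [hd, he3]; norm_num)
    obtain ⟨x, rfl⟩ := QuotientGroup.mk_surjective q
    have hxA : (x : X) ∉ S.A := fun hx => by
      rw [(QuotientGroup.eq_one_iff x).2 (Subgroup.mem_subgroupOf.2 hx), orderOf_one] at hq3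
      omega
    obtain ⟨y, hy, hxy⟩ := S.exists_comm_ne (S.hNC x.2) hxA
    have hx3 : ((x ^ 3 : S.N) : X) ∈ S.A := by
      have h := pow_orderOf_eq_one (x : S.N ⧸ S.A.subgroupOf S.N)
      rw [hq3, ← QuotientGroup.mk_pow, QuotientGroup.eq_one_iff, Subgroup.mem_subgroupOf] at h
      exact h
    have ho : orderOf (S.comA x ⟨y, hy⟩) = 3 := by
      haveI : Fact (Nat.Prime 3) := ⟨Nat.prime_three⟩
      refine orderOf_eq_prime ?_ fun h => hxy (congrArg Subtype.val h)
      rw [pow_three, ← S.comA_mul_left, ← S.comA_mul_left, ← pow_three, S.comA_swap,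
        S.comA_of_mem_A ⟨y, hy⟩ hx3, inv_one]
    have h3d := ho ▸ hunits (S.comA x ⟨y, hy⟩)
    rw [hf', pow_one] at h3d
    by_contra hlt
    have h12 : r = 11 ∨ r = 12 := by omega
    rcases h12 with rfl | rfl
    · norm_num at h3d
    · norm_num at pp

/-- The statement for smaller modules. -/
def BdBelow (p N : ℕ) : Prop :=
  ∀ (Y : Type u) [Group Y] [Finite Y] (W : Type u) [AddCommGroup W] [Finite W] [DistribMulAction Y W]
    [FaithfulSMul Y W] [Nontrivial W] (n : ℕ), Nat.card W < N → Nat.card W = p ^ n → Group.IsSolvable Y →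
      Irred Y W → Bd p n Y

/-- The imprimitive case. -/
theorem bd_components [FaithfulSMul X V] {p n : ℕ} (pp : p.Prime) (h11 : 11 ≤ p) (hs : Group.IsSolvable X)
    (hirr : Irred X V) (hcard : Nat.card V = p ^ n) (hbelow : BdBelow.{u} p (Nat.card V))
    {Ω : Type u} [Fintype Ω] [Nontrivial Ω] [MulAction X Ω] (hprim : IsPreprimitive X Ω)
    (F : Ω → V →+ V) (c₀ : Ω) (g : Ω → X) (H : Comp F c₀ g) (hne : ∀ c, ∃ v, F c v ≠ 0) : Bd p n X := by
  classical
  haveI := hs
  let N := stabilizer X c₀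
  letI : DistribMulAction N (F c₀).range :=
    { smul := fun n u => ⟨(n : X) • (u : V), H.stab_smul (mem_stabilizer_iff.1 n.2) u.2⟩
      one_smul := fun u => Subtype.ext (one_smul X (u : V))
      mul_smul := fun n k u => Subtype.ext (mul_smul (n : X) (k : X) (u : V))
      smul_zero := fun n => Subtype.ext (smul_zero (n : X))
      smul_add := fun n u w => Subtype.ext (smul_add (n : X) (u : V) (w : V)) }
  let φ : N →* (AddMonoid.End (F c₀).range)ˣ := (rho : N →* AddMonoid.End (F c₀).range).toHomUnits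
  haveI : Finite (AddMonoid.End (F c₀).range) := Finite.of_injective
    (fun f : AddMonoid.End (F c₀).range => (f : (F c₀).range → (F c₀).range)) DFunLike.coe_injective
  haveI : FaithfulSMul φ.range (F c₀).range := ⟨fun {a b} h => Subtype.ext (Units.ext (DFunLike.ext _ _ h))⟩
  have hlift : ∀ x : X, x • c₀ = c₀ → ∀ u : (F c₀).range,
      ∃ n : φ.range, ((n • u : (F c₀).range) : V) = x • (u : V) :=
    fun x hx u => ⟨⟨φ ⟨x, mem_stabilizer_iff.2 hx⟩, ⟨x, mem_stabilizer_iff.2 hx⟩, rfl⟩, rfl⟩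
  haveI : Nontrivial (F c₀).range := by
    obtain ⟨v, hv⟩ := hne c₀
    exact ⟨⟨⟨F c₀ v, v, rfl⟩, 0, fun h => hv (congrArg Subtype.val h)⟩⟩
  have hsol : Group.IsSolvable φ.range := solvable_of_surjective φ.rangeRestrict_surjective
  obtain ⟨n₁, -, hW⟩ := (Nat.dvd_prime_pow pp).1 (hcard ▸ H.card_eq ▸ dvd_pow_self _ Finite.card_pos.ne' :
    Nat.card (F c₀).range ∣ p ^ n)
  set t := Nat.card Ω
  have ht : 2 ≤ t := Finite.one_lt_card
  have hn : n = n₁ * t := Nat.pow_right_injective pp.two_le (show p ^ n = p ^ (n₁ * t) by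
    rw [← hcard, H.card_eq, hW, pow_mul])
  have hn1 : 1 ≤ n₁ := Nat.pos_of_ne_zero fun h => by
    rw [h, pow_zero] at hW
    exact Finite.one_lt_card.ne' hW
  obtain ⟨h1, h2, h3⟩ := hbelow φ.range (F c₀).range n₁ (H.card_lt hne) hW hsol (irred_of_components H hirr φ.range hlift)
  -- the kernel on the components
  let π := toPermHom X Ω
  have hK : ∀ x ∈ π.ker, ∀ c : Ω, x • c = c := fun x hx c => by
    exact congrArg (fun σ : Equiv.Perm Ω => σ c) hx
  have hmem : ∀ (x : π.ker) (c : Ω), (g c)⁻¹ * x * g c ∈ N := fun x c => by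
    rw [mem_stabilizer_iff, mul_smul, mul_smul, H.rep, hK x x.2, inv_smul_eq_iff, H.rep]
  let ψ : Ω → π.ker →* φ.range := fun c => MonoidHom.mk' (fun x => φ.rangeRestrict ⟨_, hmem x c⟩) fun x y => by
    rw [← map_mul]
    congr 1
    exact Subtype.ext (by simp only [Subgroup.coe_mul]; group)
  have hinj : ∀ x y : π.ker, (∀ c, ψ c x = ψ c y) → x = y := by
    intro x y h
    refine Subtype.ext (FaithfulSMul.eq_of_smul_eq_smul (α := V) fun v => ?_)
    rw [H.sum v, Finset.smul_sum, Finset.smul_sum]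
    refine Finset.sum_congr rfl fun c _ => ?_
    have h1 : ((g c)⁻¹ * x * g c) • ((g c)⁻¹ • F c v) = ((g c)⁻¹ * y * g c) • ((g c)⁻¹ • F c v) :=
      congrArg (fun n : φ.range => ((n • (⟨_, H.back_mem c v⟩ : (F c₀).range) : (F c₀).range) : V)) (h c)
    simp only [mul_smul, smul_inv_smul] at h1
    exact (smul_left_cancel_iff _).1 h1
  haveI := hprim
  have hKi : π.ker.index ≤ 3 ^ (t - 1) := by
    rw [Subgroup.index_ker]
    haveI : IsPreprimitive π.range Ω := IsPreprimitive.of_surjective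
      (f := ({ toFun := id, map_smul' := fun _ _ => rfl } : Ω →ₑ[π.rangeRestrict] Ω)) Function.surjective_id
    exact card_le_of_primitive (solvable_of_surjective π.rangeRestrict_surjective) (Ω := Ω) inferInstance
  have hKf : π.ker.index ≤ t.factorial := by
    rw [Subgroup.index_ker]
    exact (Subgroup.card_le_card_group _).trans (Nat.card_perm).le
  have hX : ∀ a : ℕ, RB φ.range a 1 → RB X (a ^ t * π.ker.index ^ 2) 1 := fun a ha => by
    have h := ((ha.pi (Ω := Ω)).of_injective (MonoidHom.pi ψ) fun x y e => hinj x y fun c => congrFun e c).of_index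
    rwa [one_pow, ← Nat.card_eq_fintype_card] at h
  subst hn
  refine ⟨fun h => absurd (mul_eq_one.1 h).2 (by omega), fun h => ?_, fun h => ?_⟩
  · have ht2 : t = 2 := le_antisymm (Nat.le_of_dvd two_pos ⟨n₁, by rw [mul_comm]; exact h.symm⟩) ht
    have hi : π.ker.index ^ 2 ≤ 2 ^ 2 := Nat.pow_le_pow_left (by simpa [ht2] using hKf) 2
    have hn11 : n₁ = 1 := by rw [ht2] at h; omega
    have h4 := hX 1 (h1 hn11)
    rw [one_pow, one_mul] at h4
    exact ⟨h4.mono one_pos (by omega), Or.inl (h4.mono one_pos (by omega))⟩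
  rcases Nat.lt_or_ge n₁ 2 with hn2 | hn2
  · obtain rfl : n₁ = 1 := by omega
    rw [one_mul] at h ⊢
    refine (hX 1 (h1 rfl)).mono one_pos ?_
    rw [one_pow, one_mul, mul_one, mul_comm]
    exact mono_arith h11 h hKi hKf
  have h6 : RB φ.range (6 * p ^ (n₁ - 2)) 1 := by
    rcases eq_or_lt_of_le hn2 with e | e
    · simpa [← e] using (h2 e.symm).1
    · exact (h3 e).mono (by norm_num) (by omega)
  refine (hX _ h6).mono one_pos ?_
  rw [mul_one]
  have he : n₁ * t - 2 = (2 * t - 2) + (n₁ - 2) * t := by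
    obtain ⟨j, rfl⟩ : ∃ j, n₁ = j + 2 := ⟨n₁ - 2, by omega⟩
    rw [Nat.add_sub_cancel, add_mul]
    omega
  rw [he, pow_add, pow_mul, mul_pow]
  calc _ = 10 * (π.ker.index ^ 2 * 6 ^ t) * (p ^ (n₁ - 2)) ^ t := by ring
    _ ≤ 59 * p ^ (2 * t - 2) * (p ^ (n₁ - 2)) ^ t := Nat.mul_le_mul_right _ (comp_arith h11 ht hKi)
    _ = _ := by ring

/-- The bound on `|X| / k(X)`. -/
theorem bound {p : ℕ} (pp : p.Prime) (h11 : 11 ≤ p) : ∀ N, BdBelow.{u} p N := by
  intro N
  induction N with
  | zero => intro Y _ _ W _ _ _ _ _ n h; exact absurd h (Nat.not_lt_zero _)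
  | succ N ih =>
    intro Y _ _ W _ _ _ _ _ n h hcard hs hirr
    obtain ⟨S⟩ := exists_sect Y hs
    rcases field_or_imprimitive hirr S with hfld | ⟨Ω, _, _, _, hprim, F, c₀, g, H, hne⟩
    · exact bd_field pp h11 hs hcard S hfld
    · exact bd_components pp h11 hs hirr hcard (fun Y' _ _ W' _ _ _ _ _ n' h' => ih Y' W' n' (by omega))
        hprim F c₀ g H hne

end CfsgLib.Sharp
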