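import Cfsg.Agent.Lib.FgsC.Sharp.Bound
import Cfsg.Agent.Lib.FgsC.ClassBound.Classes

/-!
# The sharp bound for an irreducible soluble linear group in characteristic `p ≥ 11`
-/

set_option autoImplicit false

universe u

namespace CfsgLib.Sharp

open MulAction CfsgLib.BaseTwo CfsgLib.ClassBound

/-- `49 p ≤ 60 (k(X) + orb - 1)` for `p ≥ 11`. -/
theorem linear_large {X : Type u} [Group X] [Finite X] {V : Type u} [AddCommGroup V] [Finite V] [DistribMulAction X V]
    [FaithfulSMul X V] {p n : ℕ} (pp : p.Prime) (h11 : 11 ≤ p) (hn : 2 ≤ n) (hcard : Nat.card V = p ^ n)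
    (hs : Group.IsSolvable X) (hirr : Irred X V) :
    49 * p ≤ 60 * (Nat.card (ConjClasses X) + (orb X V - 1)) := by
  have hp2 : p ^ 2 ≤ p ^ n := Nat.pow_le_pow_right (by omega) hn
  have h121 : 121 ≤ p ^ 2 := le_trans (by norm_num) (Nat.pow_le_pow_left h11 2)
  haveI : Nontrivial V := Finite.one_lt_card_iff_nontrivial.1 (by rw [hcard]; omega)
  obtain ⟨-, h2, h3⟩ := bound pp h11 _ X V n (Nat.lt_succ_self _) hcard hs hirr
  have ho := card_le_orb (X := X) (V := V)
  rw [hcard] at ho
  set k := Nat.card (ConjClasses X)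
  set o := orb X V - 1
  rcases eq_or_lt_of_le hn with hn' | hn'
  · subst hn'
    obtain ⟨-, h173 | ⟨z, hz, hX, hk⟩⟩ := h2 rfl
    · refine final_arith (p := p) (c := p ^ 2 - 1) (a := 17) (b := 3) (k := k) (o := o) (by omega) (by norm_num) ?_
      unfold RB at h173
      calc 3 * (p ^ 2 - 1) ≤ 3 * (o * Nat.card X) := Nat.mul_le_mul_left _ (by omega)
        _ = o * (3 * Nat.card X) := by ring
        _ ≤ o * (17 * k) := Nat.mul_le_mul_left _ h173
        _ = _ := by ring
    · exact exact_arith h11 (by omega) hz hk (hX ▸ ho)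
  · have h := h3 hn'
    unfold RB at h
    have hpn : p ^ 2 * p ^ (n - 2) = p ^ n := by rw [← pow_add]; congr 1; omega
    have hp3 : 1331 ≤ p ^ n :=
      le_trans (le_trans (by norm_num) (Nat.pow_le_pow_left h11 3)) (Nat.pow_le_pow_right (by omega) hn')
    refine final_arith (p := p) (c := p ^ n - 1) (a := 59 * p ^ (n - 2)) (b := 10) (k := k) (o := o) ?_
      (Nat.mul_pos (by norm_num) (Nat.pow_pos (by omega))) ?_
    · rw [show p ^ 2 * (59 * p ^ (n - 2)) = 59 * (p ^ 2 * p ^ (n - 2)) by ring, hpn]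
      omega
    calc 10 * (p ^ n - 1) ≤ 10 * (o * Nat.card X) := Nat.mul_le_mul_left _ (by omega)
      _ = o * (10 * Nat.card X) := by ring
      _ ≤ o * (59 * p ^ (n - 2) * k) := Nat.mul_le_mul_left _ h
      _ = _ := by ring

end CfsgLib.Sharp
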