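import Mathlib.GroupTheory.CommutingProbability
import Mathlib.GroupTheory.QuotientGroup.Basic
import Mathlib.Tactic

/-!
# The ratio `|X| / k(X)`

`RB X a b` says `|X| / k(X) ≤ a / b`.
-/

set_option autoImplicit false

universe u v

namespace CfsgLib.Sharp

/-- `b |X| ≤ a k(X)`. -/
def RB (X : Type u) [Group X] (a b : ℕ) : Prop := b * Nat.card X ≤ a * Nat.card (ConjClasses X)

/-- Commuting pairs. -/
noncomputable def cp (X : Type u) [Group X] : ℕ := Nat.card {p : X × X // Commute p.1 p.2}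

variable {X : Type u} [Group X]

theorem cp_eq : cp X = Nat.card (ConjClasses X) * Nat.card X := card_comm_eq_card_conjClasses_mul_card X

theorem RB.mono {a b a' b' : ℕ} (h : RB X a b) (hb : 0 < b) (hle : a * b' ≤ a' * b) : RB X a' b' := by
  refine Nat.le_of_mul_le_mul_left ?_ hb
  calc b * (b' * Nat.card X) = b' * (b * Nat.card X) := by ring
    _ ≤ b' * (a * Nat.card (ConjClasses X)) := Nat.mul_le_mul_left _ h
    _ = (a * b') * Nat.card (ConjClasses X) := by ring
    _ ≤ (a' * b) * Nat.card (ConjClasses X) := Nat.mul_le_mul_right _ hle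
    _ = _ := by ring

theorem RB.of_comm (h : ∀ x y : X, x * y = y * x) : RB X 1 1 := by
  have hinj : Function.Injective (ConjClasses.mk : X → ConjClasses X) := fun x y e => by
    obtain ⟨g, hg⟩ := isConj_iff.1 (ConjClasses.mk_eq_mk_iff_isConj.1 e)
    rwa [h g x, mul_inv_cancel_right] at hg
  simp only [RB, one_mul]
  exact (Nat.card_eq_of_bijective _ ⟨hinj, ConjClasses.mk_surjective⟩).le

theorem RB.of_equiv {Y : Type v} [Group Y] (e : X ≃* Y) {a b : ℕ} (h : RB Y a b) : RB X a b := by
  unfold RB at h ⊢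
  rw [Nat.card_congr e.toEquiv]
  refine h.trans (Nat.mul_le_mul_left _ ?_)
  refine (Nat.card_eq_of_bijective (ConjClasses.map (e : X →* Y)) ⟨?_, ?_⟩).ge
  · intro c d hcd
    obtain ⟨x, rfl⟩ := ConjClasses.mk_surjective c
    obtain ⟨y, rfl⟩ := ConjClasses.mk_surjective d
    obtain ⟨g, hg⟩ := isConj_iff.1 (ConjClasses.mk_eq_mk_iff_isConj.1 hcd)
    refine ConjClasses.mk_eq_mk_iff_isConj.2 (isConj_iff.2 ⟨e.symm g, e.injective ?_⟩)
    rw [map_mul, map_mul, map_inv, e.apply_symm_apply]
    exact hg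
  · exact ConjClasses.map_surjective e.surjective

variable [Finite X]

/-- From a subgroup to the group. -/
theorem RB.of_index {H : Subgroup X} {a b : ℕ} (h : RB H a b) : RB X (a * H.index ^ 2) b := by
  have hle : cp H ≤ cp X :=
    Nat.card_le_card_of_injective (fun p => ⟨(p.1.1, p.1.2), congrArg Subtype.val p.2⟩)
      fun p q e => by simpa only [Subtype.ext_iff, Prod.ext_iff] using e
  rw [cp_eq, cp_eq, ← Subgroup.card_mul_index H] at hle
  have h1 : Nat.card (ConjClasses H) ≤ Nat.card (ConjClasses X) * H.index :=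
    Nat.le_of_mul_le_mul_right (by rw [mul_assoc, mul_comm H.index]; exact hle) Nat.card_pos
  unfold RB at h ⊢
  rw [← Subgroup.card_mul_index H]
  calc b * (Nat.card H * H.index) = (b * Nat.card H) * H.index := by ring
    _ ≤ (a * (Nat.card (ConjClasses X) * H.index)) * H.index :=
        Nat.mul_le_mul_right _ (h.trans (Nat.mul_le_mul_left _ h1))
    _ = _ := by ring

omit [Finite X] in
/-- Commuting pairs with second entry in `H`. -/
theorem pairs_le [Finite X] (H : Subgroup X) (T : Set X) :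
    Nat.card {p : X × X // p.1 ∈ T ∧ Commute p.1 p.2} ≤
      H.index * Nat.card {p : X × X // (p.1 ∈ T ∧ p.2 ∈ H) ∧ Commute p.1 p.2} := by
  classical
  have hrep : ∀ (x : X) (c : X ⧸ H), (∃ y, Commute x y ∧ (y : X ⧸ H) = c) →
      ∃ y, Commute x y ∧ (y : X ⧸ H) = c := fun _ _ h => h
  choose r hr hrc using hrep
  let Φ : {p : X × X // p.1 ∈ T ∧ Commute p.1 p.2} →
      (X ⧸ H) × {p : X × X // (p.1 ∈ T ∧ p.2 ∈ H) ∧ Commute p.1 p.2} := fun p =>
    ((p.1.2 : X ⧸ H), ⟨(p.1.1, (r p.1.1 (p.1.2 : X ⧸ H) ⟨_, p.2.2, rfl⟩)⁻¹ * p.1.2),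
      ⟨p.2.1, QuotientGroup.eq.1 (hrc _ _ _)⟩, (hr _ _ _).inv_right.mul_right p.2.2⟩)
  have hΦ : Function.Injective Φ := by
    rintro ⟨⟨x, y⟩, hp⟩ ⟨⟨x', y'⟩, hq⟩ e
    simp only [Φ, Prod.ext_iff, Subtype.ext_iff] at e
    obtain ⟨h1, rfl, h3⟩ := e
    simp only [h1, mul_right_inj] at h3
    subst h3; rfl
  refine (Nat.card_le_card_of_injective Φ hΦ).trans ?_
  rw [Nat.card_prod, ← Subgroup.index_eq_card]

/-- From the group to a subgroup. -/
theorem RB.to_subgroup {H : Subgroup X} {a b : ℕ} (h : RB X a b) : RB H a b := by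
  have h1 := pairs_le H (Set.univ : Set X)
  have h2 := pairs_le H (H : Set X)
  have e0 : Nat.card {p : X × X // p.1 ∈ (Set.univ : Set X) ∧ Commute p.1 p.2} = cp X :=
    Nat.card_congr (Equiv.subtypeEquivRight fun p => by simp)
  have e1 : Nat.card {p : X × X // (p.1 ∈ (Set.univ : Set X) ∧ p.2 ∈ H) ∧ Commute p.1 p.2} =
      Nat.card {p : X × X // p.1 ∈ (H : Set X) ∧ Commute p.1 p.2} :=
    Nat.card_congr ((Equiv.prodComm X X).subtypeEquiv fun p => by
      simp only [Set.mem_univ, true_and, Equiv.prodComm_apply, Prod.fst_swap, Prod.snd_swap, SetLike.mem_coe]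
      exact and_congr_right fun _ => ⟨Commute.symm, Commute.symm⟩)
  have e2 : Nat.card {p : X × X // (p.1 ∈ (H : Set X) ∧ p.2 ∈ H) ∧ Commute p.1 p.2} = cp H :=
    Nat.card_congr
      { toFun := fun p => ⟨(⟨p.1.1, p.2.1.1⟩, ⟨p.1.2, p.2.1.2⟩), Subtype.ext p.2.2⟩
        invFun := fun p => ⟨((p.1.1 : X), (p.1.2 : X)), ⟨p.1.1.2, p.1.2.2⟩, congrArg Subtype.val p.2⟩
        left_inv := fun p => rfl
        right_inv := fun p => rfl }
  rw [e0, e1] at h1
  rw [e2] at h2
  have h3 : cp X ≤ H.index * (H.index * cp H) := h1.trans (Nat.mul_le_mul_left _ h2)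
  rw [cp_eq, cp_eq, ← Subgroup.card_mul_index H] at h3
  have h4 : Nat.card (ConjClasses X) ≤ H.index * Nat.card (ConjClasses H) :=
    Nat.le_of_mul_le_mul_right (c := Nat.card H * H.index)
      (by linarith [show H.index * (H.index * (Nat.card (ConjClasses H) * Nat.card H)) =
        H.index * Nat.card (ConjClasses H) * (Nat.card H * H.index) by ring])
      (Nat.mul_pos Nat.card_pos (Nat.pos_of_ne_zero Subgroup.index_ne_zero_of_finite))
  unfold RB at h ⊢
  rw [← Subgroup.card_mul_index H] at h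
  refine Nat.le_of_mul_le_mul_right ?_ (Nat.pos_of_ne_zero (Subgroup.index_ne_zero_of_finite (H := H)))
  calc b * Nat.card H * H.index = b * (Nat.card H * H.index) := by ring
    _ ≤ a * (H.index * Nat.card (ConjClasses H)) := h.trans (Nat.mul_le_mul_left _ h4)
    _ = _ := by ring

theorem RB.of_injective {Y : Type v} [Group Y] [Finite Y] {H : Type u} [Group H] (f : H →* Y)
    (hf : Function.Injective f) {a b : ℕ} (h : RB Y a b) : RB H a b :=
  RB.of_equiv (MonoidHom.ofInjective hf) h.to_subgroup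

/-- Powers. -/
theorem RB.pi {Ω : Type v} [Fintype Ω] {a b : ℕ} (h : RB X a b) :
    RB (Ω → X) (a ^ Fintype.card Ω) (b ^ Fintype.card Ω) := by
  have hk : ∀ (Y : Type (max u v)) [Group Y] [Finite Y],
      (Nat.card (ConjClasses Y) : ℚ) = commProb Y * Nat.card Y := fun Y _ _ => by
    rw [commProb_def', div_mul_cancel₀ _ (Nat.cast_ne_zero.2 Nat.card_pos.ne')]
  have hkX : (Nat.card (ConjClasses X) : ℚ) = commProb X * Nat.card X := by
    rw [commProb_def', div_mul_cancel₀ _ (Nat.cast_ne_zero.2 Nat.card_pos.ne')]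
  have h' : (b : ℚ) * Nat.card X ≤ a * (commProb X * Nat.card X) := by
    rw [← hkX]; exact_mod_cast h
  unfold RB
  rw [← Nat.cast_le (α := ℚ)]
  push_cast
  rw [hk, commProb_function, Nat.card_pi, Finset.prod_const, Finset.card_univ]
  push_cast
  rw [← mul_pow, ← mul_pow, ← mul_pow]
  exact pow_le_pow_left₀ (mul_nonneg (Nat.cast_nonneg _) (Nat.cast_nonneg _)) h' _

/-- A central subgroup of index `Y ≥ 2`: `3 |C| ≤ (Y + 1) k(C)`. -/
theorem RB.of_central {A : Subgroup X} (hA : ∀ a ∈ A, ∀ x : X, a * x = x * a) (hi : 2 ≤ A.index) :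
    RB X (A.index + 1) 3 := by
  classical
  letI := Fintype.ofFinite X
  have hcp : cp X = ∑ x : X, Nat.card {y : X // Commute x y} := by
    rw [cp, ← Nat.card_sigma]
    exact Nat.card_congr (Equiv.subtypeProdEquivSigmaSubtype fun x y => Commute x y)
  have hin : ∀ x ∈ A, Nat.card {y : X // Commute x y} = Nat.card X := fun x hx =>
    Nat.card_congr (Equiv.subtypeUnivEquiv fun y => hA x hx y)
  have hout : ∀ x ∉ A, 2 * Nat.card A ≤ Nat.card {y : X // Commute x y} := by
    intro x hx
    let f : A ⊕ A → {y : X // Commute x y} := Sum.elim (fun a => ⟨a, (hA a a.2 x).symm⟩)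
      (fun a => ⟨x * a, (Commute.refl x).mul_right (hA a a.2 x).symm⟩)
    have hf : Function.Injective f := by
      rintro (a | a) (c | c) e <;> simp only [f, Sum.elim_inl, Sum.elim_inr, Subtype.ext_iff] at e
      · rw [Subtype.ext e]
      · exact absurd (by rw [show x = (a : X) * (c : X)⁻¹ from eq_mul_inv_of_mul_eq e.symm]
                         exact A.mul_mem a.2 (A.inv_mem c.2)) hx
      · exact absurd (by rw [show x = (c : X) * (a : X)⁻¹ from eq_mul_inv_of_mul_eq e]
                         exact A.mul_mem c.2 (A.inv_mem a.2)) hx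
      · rw [Subtype.ext (mul_left_cancel e)]
    have := Nat.card_le_card_of_injective f hf
    rw [Nat.card_sum] at this
    omega
  have hsum : Nat.card A * Nat.card X + (Nat.card X - Nat.card A) * (2 * Nat.card A) ≤ cp X := by
    rw [hcp, ← Finset.sum_filter_add_sum_filter_not Finset.univ (fun x => x ∈ A)]
    have hc : (Finset.univ.filter fun x => x ∈ A).card = Nat.card A := by
      rw [Nat.card_eq_fintype_card, Fintype.card_subtype]
    have hc' : (Finset.univ.filter fun x => x ∉ A).card = Nat.card X - Nat.card A := by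
      have h := Finset.card_filter_add_card_filter_not (s := (Finset.univ : Finset X)) (fun x => x ∈ A)
      rw [hc, Finset.card_univ, ← Nat.card_eq_fintype_card] at h
      omega
    refine Nat.add_le_add ?_ ?_
    · rw [Finset.sum_congr rfl (fun x hx => hin x (Finset.mem_filter.1 hx).2), Finset.sum_const, smul_eq_mul, hc]
    · rw [← hc', ← smul_eq_mul, ← Finset.sum_const]
      exact Finset.sum_le_sum fun x hx => hout x (Finset.mem_filter.1 hx).2
  rw [cp_eq, ← Subgroup.card_mul_index A] at hsum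
  obtain ⟨j, hj⟩ : ∃ j, A.index = j + 2 := ⟨A.index - 2, by omega⟩
  rw [hj] at hsum ⊢
  have e : Nat.card A * (j + 2) - Nat.card A = Nat.card A * (j + 1) := by
    rw [show Nat.card A * (j + 2) = Nat.card A * (j + 1) + Nat.card A by ring, Nat.add_sub_cancel]
  rw [e] at hsum
  have hA0 : 0 < Nat.card A := Nat.card_pos
  have key : Nat.card A * (3 * j + 4) ≤ Nat.card (ConjClasses X) * (j + 2) := by
    refine Nat.le_of_mul_le_mul_right ?_ hA0
    linarith [show Nat.card A * (Nat.card A * (j + 2)) + Nat.card A * (j + 1) * (2 * Nat.card A) =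
      Nat.card A * (3 * j + 4) * Nat.card A by ring]
  unfold RB
  rw [← Subgroup.card_mul_index A, hj]
  refine Nat.le_of_mul_le_mul_left ?_ (show 0 < j + 2 by omega)
  calc (j + 2) * (3 * (Nat.card A * (j + 2))) = Nat.card A * (3 * (j + 2) ^ 2) := by ring
    _ ≤ Nat.card A * ((j + 3) * (3 * j + 4)) := Nat.mul_le_mul_left _ (by nlinarith)
    _ = (j + 3) * (Nat.card A * (3 * j + 4)) := by ring
    _ ≤ (j + 3) * (Nat.card (ConjClasses X) * (j + 2)) := Nat.mul_le_mul_left _ key
    _ = _ := by ring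

end CfsgLib.Sharp
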