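import Cfsg.Agent.Lib.FgsC.ClassBound.Classes
import Cfsg.Agent.Lib.FgsB.Basic

/-!
# The class bound for small primes

A group with at most four classes has order at most `42`; this settles the linear groups over
`p ≤ 7`.
-/

set_option autoImplicit false
set_option linter.style.haveILetI false

universe u

namespace CfsgLib.Sharp

open CfsgLib.BaseTwo CfsgLib.ClassBound MulAction

namespace SmallLinear

theorem two_eq {n a i : ℕ} (hn : n = 1 + a) (ha : a * i = n) (hi : 2 ≤ i) : n = 2 := by
  rcases Nat.lt_or_ge a 2 with h | h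
  · interval_cases a <;> omega
  · nlinarith

theorem three_le {n a b i j : ℕ} (hn : n = 1 + a + b) (ha : a * i = n) (hb : b * j = n)
    (hi : 2 ≤ i) (hab : a ≤ b) (hj : 2 ≤ j) : n ≤ 6 := by
  by_contra h
  have h3 : j ≤ 2 := by nlinarith
  have hj2 : j = 2 := by omega
  subst hj2
  have h4 : i ≤ 3 := by nlinarith
  interval_cases i <;> omega

theorem four_le {n a b c i j l : ℕ} (hn : n = 1 + a + b + c) (ha : a * i = n) (hb : b * j = n)
    (hc : c * l = n) (hi : 2 ≤ i) (hj : 2 ≤ j) (hl : 2 ≤ l) (hab : a ≤ b) (hbc : b ≤ c) :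
    n ≤ 42 := by
  by_contra h
  have h1 : l ≤ 3 := by nlinarith
  interval_cases l
  · have h2 : j ≤ 4 := by nlinarith
    interval_cases j
    · omega
    · have h3 : i ≤ 7 := by nlinarith
      interval_cases i <;> omega
    · have h3 : i ≤ 5 := by nlinarith
      interval_cases i <;> omega
  · have h2 : j ≤ 3 := by nlinarith
    interval_cases j
    · omega
    · have h3 : i ≤ 4 := by nlinarith
      interval_cases i <;> omega

variable (X : Type u) [Group X] [Finite X]

/-- A group of at most four classes has bounded order. -/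
theorem card_le_of_classes :
    (Nat.card (ConjClasses X) ≤ 2 → Nat.card X ≤ 2) ∧
    (Nat.card (ConjClasses X) = 3 → Nat.card X ≤ 6) ∧
    (Nat.card (ConjClasses X) = 4 → Nat.card X ≤ 42) := by
  classical
  letI := Fintype.ofFinite (ConjClasses X)
  set T := (Finset.univ : Finset (ConjClasses X)).erase 1 with hT
  have hcard : Nat.card (ConjClasses X) = T.card + 1 := by
    rw [hT, Finset.card_erase_add_one (Finset.mem_univ _), Finset.card_univ,
      Nat.card_eq_fintype_card]
  have hsum : Nat.card X = 1 + ∑ c ∈ T, c.carrier.ncard := by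
    rw [← Group.sum_card_conj_classes_eq_card X, finsum_eq_sum_of_fintype, hT,
      ← Finset.add_sum_erase _ _ (Finset.mem_univ (1 : ConjClasses X))]
    congr 1
    rw [Set.ncard_eq_one]
    exact ⟨1, Set.eq_singleton_iff_unique_mem.2 ⟨ConjClasses.mem_carrier_mk, fun x hx => by
      rwa [ConjClasses.mem_carrier_iff_mk_eq, ConjClasses.one_eq_mk_one,
        ConjClasses.mk_eq_mk_iff_isConj, isConj_one_left] at hx⟩⟩
  have hdiv : ∀ c ∈ T, ∃ i, 2 ≤ i ∧ c.carrier.ncard * i = Nat.card X := by
    intro c hc
    obtain ⟨g, rfl⟩ := ConjClasses.mk_surjective c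
    refine ⟨Nat.card (Subgroup.centralizer ({g} : Set X)), ?_, ?_⟩
    · refine Subgroup.one_lt_card_iff_ne_bot _ |>.2 fun h => ?_
      have hg : g ∈ Subgroup.centralizer ({g} : Set X) := Subgroup.mem_centralizer_singleton_iff.2 rfl
      rw [h, Subgroup.mem_bot] at hg
      exact (Finset.mem_erase.1 hc).1 (by rw [hg]; rfl)
    · rw [CfsgLib.FgsB.ncard_carrier_eq_index, mul_comm, Subgroup.card_mul_index]
  refine ⟨fun h => ?_, fun h => ?_, fun h => ?_⟩
  · rw [hcard] at h
    rcases Nat.eq_zero_or_pos T.card with h0 | h0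
    · rw [hsum, Finset.card_eq_zero.1 h0, Finset.sum_empty]; omega
    obtain ⟨a, ha⟩ := Finset.card_eq_one.1 (show T.card = 1 by omega)
    obtain ⟨i, hi, hai⟩ := hdiv a (by simp [ha])
    rw [ha, Finset.sum_singleton] at hsum
    exact (two_eq hsum hai hi).le
  · rw [hcard] at h
    obtain ⟨a, b, hab, ha⟩ := Finset.card_eq_two.1 (show T.card = 2 by omega)
    obtain ⟨i, hi, hai⟩ := hdiv a (by simp [ha])
    obtain ⟨j, hj, hbj⟩ := hdiv b (by simp [ha])
    rw [ha, Finset.sum_pair hab] at hsum
    rcases le_total a.carrier.ncard b.carrier.ncard with hle | hle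
    · exact three_le (by omega) hai hbj hi hle hj
    · exact three_le (by omega) hbj hai hj hle hi
  · rw [hcard] at h
    obtain ⟨a, b, c, hab, hac, hbc, ha⟩ := Finset.card_eq_three.1 (show T.card = 3 by omega)
    obtain ⟨i, hi, hai⟩ := hdiv a (by simp [ha])
    obtain ⟨j, hj, hbj⟩ := hdiv b (by simp [ha])
    obtain ⟨l, hl, hcl⟩ := hdiv c (by simp [ha])
    have hs : ∑ x ∈ T, x.carrier.ncard = a.carrier.ncard + b.carrier.ncard + c.carrier.ncard := by
      rw [ha, Finset.sum_insert (by simp [hab, hac]), Finset.sum_pair hbc, ← add_assoc]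
    rw [hs] at hsum
    rcases le_total a.carrier.ncard b.carrier.ncard with h1 | h1 <;>
      rcases le_total b.carrier.ncard c.carrier.ncard with h2 | h2 <;>
      rcases le_total a.carrier.ncard c.carrier.ncard with h3 | h3
    all_goals first
      | exact four_le (by omega) hai hbj hcl hi hj hl (by omega) (by omega)
      | exact four_le (by omega) hai hcl hbj hi hl hj (by omega) (by omega)
      | exact four_le (by omega) hbj hai hcl hj hi hl (by omega) (by omega)
      | exact four_le (by omega) hbj hcl hai hj hl hi (by omega) (by omega)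
      | exact four_le (by omega) hcl hai hbj hl hi hj (by omega) (by omega)
      | exact four_le (by omega) hcl hbj hai hl hj hi (by omega) (by omega)

end SmallLinear

open SmallLinear in
/-- The bound for an irreducible linear group over a prime up to seven. -/
theorem linear_small {X : Type u} [Group X] [Finite X] {V : Type u} [AddCommGroup V] [Finite V]
    [DistribMulAction X V] [FaithfulSMul X V] {p n : ℕ} (pp : p.Prime) (hp : p ≤ 7) (hn : 2 ≤ n)
    (hcard : Nat.card V = p ^ n) (hirr : Irred X V) :
    49 * p ≤ 60 * (Nat.card (ConjClasses X) + (orb X V - 1)) := by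
  classical
  have hV : p ^ 2 ≤ Nat.card V := hcard ▸ Nat.pow_le_pow_right pp.pos hn
  have horb := card_le_orb (X := X) (V := V)
  have hk1 : 2 ≤ Nat.card (ConjClasses X) := by
    by_contra h
    haveI : Subsingleton (ConjClasses X) := Finite.card_le_one_iff_subsingleton.1 (by omega)
    have htriv : ∀ x : X, x = 1 := fun x =>
      isConj_one_left.1 (ConjClasses.mk_eq_mk_iff_isConj.1 (Subsingleton.elim (ConjClasses.mk x) (ConjClasses.mk 1)))
    obtain ⟨v, hv⟩ := exists_prime_addOrderOf_dvd_card' (G := V) (hp := ⟨pp⟩) p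
      (hcard ▸ dvd_pow_self p (by omega))
    rcases hirr (AddSubgroup.zmultiples v) (fun a w hw => by rw [htriv a, one_smul]; exact hw) with h' | h'
    · rw [AddSubgroup.zmultiples_eq_bot] at h'
      rw [h', addOrderOf_zero] at hv
      exact pp.one_lt.ne hv
    · have e := Nat.card_zmultiples v
      rw [h', AddSubgroup.card_top, hv, hcard] at e
      have := Nat.pow_lt_pow_right pp.one_lt (show 1 < n by omega)
      rw [pow_one] at this
      omega
  obtain ⟨c2, c3, c4⟩ := card_le_of_classes X
  set k := Nat.card (ConjClasses X)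
  set o := orb X V - 1
  set m := Nat.card X
  have ho : 1 ≤ o := by
    rcases Nat.eq_zero_or_pos o with h | h
    · rw [h, zero_mul] at horb
      have : 2 ^ 2 ≤ p ^ 2 := Nat.pow_le_pow_left pp.two_le 2
      omega
    · exact h
  rcases Nat.lt_or_ge k 5 with hk | hk
  · have hq : p = 2 ∨ p = 3 ∨ p = 5 ∨ p = 7 := by
      interval_cases p <;> first | omega | norm_num at pp
    interval_cases k
    · have hm : o * m ≤ o * 2 := Nat.mul_le_mul_left _ (c2 (by norm_num))
      rcases hq with rfl | rfl | rfl | rfl <;> omega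
    · have hm : o * m ≤ o * 6 := Nat.mul_le_mul_left _ (c3 rfl)
      rcases hq with rfl | rfl | rfl | rfl <;> omega
    · have hm : o * m ≤ o * 42 := Nat.mul_le_mul_left _ (c4 rfl)
      rcases hq with rfl | rfl | rfl | rfl <;> omega
  · omega

end CfsgLib.Sharp
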