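import Cfsg.Agent.Lib.FgsC.ClassBound.Main
import Cfsg.Agent.Lib.Base.MinimalNormal
import Cfsg.Agent.Lib.FgsC.Sharp.SmallLinear

/-!
# Reduction of the class bound to irreducible linear groups
-/

set_option autoImplicit false
set_option linter.style.haveILetI false

universe u

namespace CfsgLib.Sharp

open CfsgLib.BaseTwo CfsgLib.ClassBound CfsgLib.Base MulAction
open scoped commutatorElement

namespace Reduce

variable {G : Type u} [Group G] [Finite G]

/-- A normal abelian subgroup as a module for the quotient by a normal subgroup centralising it. -/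
theorem exists_module (V C : Subgroup G) [V.Normal] [C.Normal] (hVC : V ≤ C)
    (hCV : C ≤ Subgroup.centralizer (V : Set G)) (hVc : ∀ x ∈ V, ∀ y ∈ V, x * y = y * x) :
    ∃ (W : Type u) (_ : AddCommGroup W) (_ : Finite W) (_ : DistribMulAction (G ⧸ C) W),
      Nat.card W = Nat.card V ∧
      Nat.card (ConjClasses (G ⧸ C)) + (orb (G ⧸ C) W - 1) ≤ Nat.card (ConjClasses G) ∧
      (Subgroup.centralizer (V : Set G) ≤ C → FaithfulSMul (G ⧸ C) W) ∧
      ((∀ U : Subgroup G, U.Normal → U ≤ V → U = ⊥ ∨ U = V) → Irred (G ⧸ C) W) := by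
  classical
  letI : CommGroup V := { V.toGroup with mul_comm := fun x y => Subtype.ext (hVc x x.2 y y.2) }
  let φ : G →* AddMonoid.End (Additive V) :=
    { toFun := fun g => MonoidHom.toAdditive (MulAut.conjNormal g : MulAut V).toMonoidHom
      map_one' := by rw [map_one]; rfl
      map_mul' := fun g h => by rw [map_mul]; rfl }
  have hφ : C ≤ φ.ker := fun g hg => MonoidHom.mem_ker.2 (DFunLike.ext _ _ fun v => by
    refine Additive.toMul.injective (Subtype.ext ?_)
    show g * ((Additive.toMul v : V) : G) * g⁻¹ = (Additive.toMul v : V)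
    rw [mul_inv_eq_iff_eq_mul]
    exact (Subgroup.mem_centralizer_iff.1 (hCV hg) _ (Additive.toMul v).2).symm)
  letI : DistribMulAction (G ⧸ C) (Additive V) := DistribMulAction.compHom _ (QuotientGroup.lift C φ hφ)
  have hact : ∀ (g : G) (v : V), ((Additive.toMul ((g : G ⧸ C) • Additive.ofMul v) : V) : G) = g * v * g⁻¹ :=
    fun g v => rfl
  refine ⟨Additive V, inferInstance, inferInstance, inferInstance, Nat.card_congr Additive.toMul,
    classes_orb C hVC hact, fun hC => ⟨fun {a c} h => ?_⟩, fun hmin U hU => ?_⟩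
  · obtain ⟨g, rfl⟩ := QuotientGroup.mk_surjective a
    obtain ⟨k, rfl⟩ := QuotientGroup.mk_surjective c
    refine QuotientGroup.eq.2 (hC (Subgroup.mem_centralizer_iff.2 fun v hv => ?_))
    have h1 : g * v * g⁻¹ = k * v * k⁻¹ := by rw [← hact g ⟨v, hv⟩, ← hact k ⟨v, hv⟩, h]
    calc v * (g⁻¹ * k) = g⁻¹ * (g * v * g⁻¹) * k := by group
      _ = g⁻¹ * (k * v * k⁻¹) * k := by rw [h1]
      _ = g⁻¹ * k * v := by group
  · let U' : Subgroup G := (AddSubgroup.toSubgroup' U).map V.subtype
    have hmem : ∀ x : V, (x : G) ∈ U' ↔ Additive.ofMul x ∈ U :=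
      fun x => Subgroup.mem_map_iff_mem V.subtype_injective
    have hU'V : U' ≤ V := by rintro _ ⟨x, -, rfl⟩; exact x.2
    haveI : U'.Normal := ⟨fun x hx g => by
      rw [← Subtype.coe_mk x (hU'V hx), ← hact g ⟨x, hU'V hx⟩, hmem]
      exact hU (g : G ⧸ C) _ ((hmem ⟨x, hU'V hx⟩).1 hx)⟩
    rcases hmin U' inferInstance hU'V with h | h
    · left
      rw [AddSubgroup.eq_bot_iff_forall]
      intro x hx
      have h1 := (hmem (Additive.toMul x)).2 hx
      rw [h, Subgroup.mem_bot] at h1
      exact Additive.toMul.injective (Subtype.ext h1)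
    · right
      rw [AddSubgroup.eq_top_iff']
      intro x
      exact (hmem (Additive.toMul x)).1 (by rw [h]; exact (Additive.toMul x).2)

theorem card_classes_of_comm {X : Type u} [Group X] [Finite X] (h : ∀ a b : X, a * b = b * a) :
    Nat.card X = Nat.card (ConjClasses X) := by
  refine Nat.card_eq_of_bijective ConjClasses.mk ⟨fun a b hab => ?_, ConjClasses.mk_surjective⟩
  obtain ⟨g, hg⟩ := isConj_iff.1 (ConjClasses.mk_eq_mk_iff_isConj.1 hab)
  rw [← hg, h g a, mul_inv_cancel_right]

/-- Two elements acting as powers on a cyclic group have a commutator acting trivially. -/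
theorem commutator_comm_of_pow {H : Type*} [Group H] {w x y : H}
    (hx : ∃ a : ℤ, x⁻¹ * w * x = w ^ a) (hy : ∃ a : ℤ, y⁻¹ * w * y = w ^ a) :
    ⁅x, y⁆ * w = w * ⁅x, y⁆ := by
  obtain ⟨a, ha⟩ := hx
  obtain ⟨b, hb⟩ := hy
  have hxy : (x * y)⁻¹ * w * (x * y) = (y * x)⁻¹ * w * (y * x) := by
    have e1 : y⁻¹ * w ^ a * y = (y⁻¹ * w * y) ^ a := by
      have := (conj_zpow (i := a) (a := y⁻¹) (b := w)).symm
      rwa [inv_inv] at this
    have e2 : x⁻¹ * w ^ b * x = (x⁻¹ * w * x) ^ b := by
      have := (conj_zpow (i := b) (a := x⁻¹) (b := w)).symm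
      rwa [inv_inv] at this
    calc (x * y)⁻¹ * w * (x * y) = y⁻¹ * (x⁻¹ * w * x) * y := by group
      _ = w ^ (b * a) := by rw [ha, e1, hb, ← zpow_mul]
      _ = x⁻¹ * (y⁻¹ * w * y) * x := by rw [hb, e2, ha, ← zpow_mul, mul_comm]
      _ = (y * x)⁻¹ * w * (y * x) := by group
  calc ⁅x, y⁆ * w = (x * y) * ((y * x)⁻¹ * w * (y * x)) * (y * x)⁻¹ := by
        rw [commutatorElement_def]; group
    _ = (x * y) * ((x * y)⁻¹ * w * (x * y)) * (y * x)⁻¹ := by rw [hxy]
    _ = w * ⁅x, y⁆ := by rw [commutatorElement_def]; group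

/-- The case of a minimal normal subgroup of order `p` inside a Sylow subgroup of order `p ^ 2`. -/
theorem bound_of_sylow_normal {p : ℕ} (pp : p.Prime) (V P : Subgroup G) [hVn : V.Normal] [hPn : P.Normal]
    (hVP : V ≤ P) (hV : Nat.card V = p) (hP : Nat.card P = p ^ 2) (hidx : ¬ p ∣ P.index)
    (hCP : Subgroup.centralizer (P : Set G) ≤ P) : 49 * p ≤ 60 * Nat.card (ConjClasses G) := by
  classical
  haveI : Fact p.Prime := ⟨pp⟩
  haveI : IsMulCommutative P := IsPGroup.isMulCommutative_of_card_eq_prime_sq hP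
  have hPc : ∀ x ∈ P, ∀ y ∈ P, x * y = y * x := fun x hx y hy =>
    congrArg Subtype.val (mul_comm' (⟨x, hx⟩ : P) ⟨y, hy⟩)
  have hPle : P ≤ Subgroup.centralizer (P : Set G) := fun x hx =>
    Subgroup.mem_centralizer_iff.2 fun y hy => hPc y hy x hx
  obtain ⟨w, hwP, hwV⟩ : ∃ w ∈ P, w ∉ V := by
    by_contra hall
    push Not at hall
    have := Subgroup.card_le_of_le (show P ≤ V from hall)
    rw [hV, hP, pow_two] at this
    nlinarith [pp.two_le]
  have hgen : ∀ y ∈ P, y ∈ Subgroup.zpowers w ⊔ V := by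
    intro y hy
    set R := Subgroup.zpowers w ⊔ V with hR
    have hRP : R ≤ P := sup_le (Subgroup.zpowers_le.2 hwP) hVP
    obtain ⟨a, ha, hac⟩ := (Nat.dvd_prime_pow pp).1 (hP ▸ Subgroup.card_dvd_of_le hRP)
    have hlt : Nat.card V < Nat.card R := Set.Finite.card_lt_card (Set.toFinite _)
      (lt_of_le_of_ne (show V ≤ R from le_sup_right) fun e =>
        hwV (show w ∈ (V : Set G) by rw [e]; exact Subgroup.mem_sup_left (Subgroup.mem_zpowers w)))
    rw [hV, hac] at hlt
    have ha2 : a = 2 := by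
      by_contra hne
      interval_cases a <;> simp_all
    have : R = P := Subgroup.eq_of_le_of_card_ge hRP (by rw [hac, ha2, hP])
    rw [this]; exact hy
  -- elements fixing `V` and `P / V` lie in `P`
  have hstab : ∀ x : G, (∀ v ∈ V, x * v = v * x) → ⁅x, w⁆ ∈ V → x ∈ P := by
    intro x hxV hxw
    set d := ⁅x, w⁆ with hd
    have hpow : ∀ i : ℕ, x ^ i * w * (x ^ i)⁻¹ = d ^ i * w := by
      intro i
      induction i with
      | zero => simp
      | succ i ih =>
        calc x ^ (i + 1) * w * (x ^ (i + 1))⁻¹ = x * (x ^ i * w * (x ^ i)⁻¹) * x⁻¹ := by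
              rw [pow_succ' x i]; group
          _ = x * (d ^ i * w) * x⁻¹ := by rw [ih]
          _ = (d ^ i * x) * w * x⁻¹ := by rw [← mul_assoc x, hxV _ (pow_mem hxw i)]
          _ = d ^ i * (⁅x, w⁆ * w) := by rw [commutatorElement_def]; group
          _ = d ^ (i + 1) * w := by rw [← hd, pow_succ, mul_assoc]
    have hdp : d ^ p = 1 := by
      have := pow_card_eq_one' (x := (⟨d, hxw⟩ : V))
      rw [hV] at this
      exact congrArg Subtype.val this
    have hxp : x ^ p ∈ P := by
      refine hCP (Subgroup.mem_centralizer_iff.2 fun y hy => ?_)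
      have h1 : Subgroup.zpowers w ⊔ V ≤ Subgroup.centralizer ({x ^ p} : Set G) := by
        refine sup_le (Subgroup.zpowers_le.2 (Subgroup.mem_centralizer_singleton_iff.2 ?_)) fun v hv =>
          Subgroup.mem_centralizer_singleton_iff.2 ?_
        · have h2 := hpow p
          rw [hdp, one_mul, mul_inv_eq_iff_eq_mul] at h2
          exact h2.symm
        · exact ((show Commute x v from hxV v hv).pow_left p).eq.symm
      exact Subgroup.mem_centralizer_singleton_iff.1 (h1 (hgen y hy))
    rw [← QuotientGroup.eq_one_iff]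
    have h1 : ((x : G ⧸ P)) ^ p = 1 := by
      rw [← QuotientGroup.mk_pow, QuotientGroup.eq_one_iff]; exact hxp
    rcases (Nat.dvd_prime pp).1 (orderOf_dvd_of_pow_eq_one h1) with h | h
    · exact orderOf_eq_one_iff.1 h
    · exact absurd (h ▸ orderOf_dvd_natCard (x : G ⧸ P)) (by rwa [← Subgroup.index_eq_card])
  -- the quotient is abelian
  have hab : ∀ a b : G ⧸ P, a * b = b * a := by
    intro a b
    obtain ⟨g, rfl⟩ := QuotientGroup.mk_surjective a
    obtain ⟨h, rfl⟩ := QuotientGroup.mk_surjective b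
    rw [← commutatorElement_eq_one_iff_mul_comm]
    show QuotientGroup.mk' P g * QuotientGroup.mk' P h * (QuotientGroup.mk' P g)⁻¹ * (QuotientGroup.mk' P h)⁻¹ = 1
    rw [← map_inv, ← map_inv, ← map_mul, ← map_mul, ← map_mul, QuotientGroup.mk'_apply,
      QuotientGroup.eq_one_iff]
    haveI : IsCyclic V := isCyclic_of_prime_card hV
    obtain ⟨v0, hv0⟩ := IsCyclic.exists_generator (α := V)
    have hVpow : ∀ g : G, ∃ a : ℤ, ∀ v ∈ V, g * v * g⁻¹ = v ^ a := by
      intro g
      obtain ⟨a, ha⟩ := Subgroup.mem_zpowers_iff.1 (hv0 ⟨g * v0 * g⁻¹, hVn.conj_mem _ v0.2 g⟩)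
      refine ⟨a, fun v hv => ?_⟩
      obtain ⟨i, hi⟩ := Subgroup.mem_zpowers_iff.1 (hv0 ⟨v, hv⟩)
      have ha' : (v0 : G) ^ a = g * v0 * g⁻¹ := by simpa using congrArg Subtype.val ha
      have hi' : (v0 : G) ^ i = v := by simpa using congrArg Subtype.val hi
      rw [← hi', ← conj_zpow, ← ha', ← zpow_mul, ← zpow_mul, mul_comm]
    have hWpow : ∀ g : G, ∃ a : ℤ, ((g * w * g⁻¹ : G) : G ⧸ V) = ((w : G) : G ⧸ V) ^ a := by
      intro g
      obtain ⟨y, hy, z, hz, hyz⟩ := Subgroup.mem_sup_of_normal_right.1 (hgen _ (hPn.conj_mem w hwP g))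
      obtain ⟨a, rfl⟩ := Subgroup.mem_zpowers_iff.1 hy
      refine ⟨a, ?_⟩
      rw [← hyz, QuotientGroup.mk_mul, (QuotientGroup.eq_one_iff z).2 hz, mul_one, QuotientGroup.mk_zpow]
    show ⁅g, h⁆ ∈ P
    refine hstab _ (fun v hv => ?_) ?_
    · have key : ∀ g : G, ∃ a : ℤ, g⁻¹ * v * g = v ^ a := fun g => by
        obtain ⟨a, ha⟩ := hVpow g⁻¹
        exact ⟨a, by simpa using ha v hv⟩
      exact commutator_comm_of_pow (key g) (key h)
    · have key : ∀ g : G, ∃ a : ℤ, (QuotientGroup.mk' V g)⁻¹ * (QuotientGroup.mk' V w) *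
          (QuotientGroup.mk' V g) = (QuotientGroup.mk' V w) ^ a := fun g => by
        obtain ⟨a, ha⟩ := hWpow g⁻¹
        refine ⟨a, ?_⟩
        rw [← map_inv, ← map_mul, ← map_mul]
        simpa using ha
      rw [← QuotientGroup.eq_one_iff, ← QuotientGroup.mk'_apply, map_commutatorElement,
        commutatorElement_eq_one_iff_mul_comm, map_commutatorElement]
      exact commutator_comm_of_pow (key g) (key h)
  obtain ⟨W, _, _, _, hWcard, hle, -, -⟩ := exists_module P P le_rfl hPle hPc
  have horb := card_le_orb (X := G ⧸ P) (V := W)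
  rw [hWcard, hP] at horb
  rw [← card_classes_of_comm hab] at hle
  set o := orb (G ⧸ P) W - 1
  set m := Nat.card (G ⧸ P)
  have h4 : 4 * (o * m) ≤ (m + o) * (m + o) := by nlinarith [sq_nonneg ((m : ℤ) - o)]
  have h5 : (49 * p) * (49 * p) ≤ (60 * (m + o)) * (60 * (m + o)) := by
    have : 4 ≤ p ^ 2 := by nlinarith [pp.two_le]
    nlinarith
  exact (Nat.mul_self_le_mul_self_iff.1 h5).trans (Nat.mul_le_mul_left _ hle)

end Reduce

open Reduce in
/-- The bound follows from the one for irreducible linear groups. -/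
theorem classes_bound_of_linear {p : ℕ} (pp : p.Prime)
    (hlin : ∀ (X : Type u) [Group X] [Finite X] (V : Type u) [AddCommGroup V] [Finite V] [DistribMulAction X V]
      [FaithfulSMul X V] (n : ℕ), 2 ≤ n → Nat.card V = p ^ n → Group.IsSolvable X → Irred X V →
      49 * p ≤ 60 * (Nat.card (ConjClasses X) + (orb X V - 1)))
    (G : Type u) [Group G] [Finite G] (hs : Group.IsSolvable G) (hp : p ^ 2 ∣ Nat.card G) :
    49 * p ≤ 60 * Nat.card (ConjClasses G) := by
  classical
  haveI : Fact p.Prime := ⟨pp⟩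
  induction hN : Nat.card G using Nat.strong_induction_on generalizing G with
  | _ N ih =>
  subst hN
  haveI := hs
  -- quotients by normal subgroups
  have hquot : ∀ M : Subgroup G, ∀ [M.Normal], M ≠ ⊥ → p ^ 2 ∣ M.index →
      49 * p ≤ 60 * Nat.card (ConjClasses G) := by
    intro M _ hM hpM
    have hlt : Nat.card (G ⧸ M) < Nat.card G := by
      rw [← Subgroup.card_mul_index M, Subgroup.index_eq_card]
      have h2 : 2 ≤ Nat.card M := M.one_lt_card_iff_ne_bot.2 hM
      have : 0 < Nat.card (G ⧸ M) := Nat.card_pos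
      nlinarith
    exact (ih _ hlt (G ⧸ M) inferInstance (by rwa [← Subgroup.index_eq_card]) rfl).trans
      (Nat.mul_le_mul_left _ (classes_quot_le M))
  -- a minimal normal subgroup of order at least `p ^ 2`
  have hbig : ∀ M : Subgroup G, IsMinimalNormal M → ∀ n : ℕ, 2 ≤ n → Nat.card M = p ^ n →
      49 * p ≤ 60 * Nat.card (ConjClasses G) := by
    intro M hM n hn hMc
    haveI := hM.normal
    haveI hcomm := hM.isMulCommutative inferInstance
    have hc : ∀ x ∈ M, ∀ y ∈ M, x * y = y * x := fun x hx y hy =>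
      congrArg Subtype.val (mul_comm' (⟨x, hx⟩ : M) ⟨y, hy⟩)
    have hMC : M ≤ Subgroup.centralizer (M : Set G) := fun x hx =>
      Subgroup.mem_centralizer_iff.2 fun y hy => hc y hy x hx
    obtain ⟨W, _, _, _, hWcard, hle, hfaith, hirr⟩ :=
      exists_module M (Subgroup.centralizer (M : Set G)) hMC le_rfl hc
    haveI := hfaith le_rfl
    exact (hlin (G ⧸ Subgroup.centralizer (M : Set G)) W n hn (hWcard.trans hMc) inferInstance
      (hirr fun U hU hUM => hM.eq_bot_or_eq hU hUM)).trans (Nat.mul_le_mul_left _ hle)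
  haveI : Nontrivial G := by
    rw [← Finite.one_lt_card_iff_nontrivial]
    exact lt_of_lt_of_le (Nat.one_lt_pow (by norm_num) pp.one_lt) (Nat.le_of_dvd Nat.card_pos hp)
  by_cases hex : ∃ M : Subgroup G, IsMinimalNormal M ∧ p ^ 2 ∣ M.index
  · obtain ⟨M, hM, hpM⟩ := hex
    haveI := hM.normal
    exact hquot M hM.ne_bot hpM
  by_cases hexb : ∃ M : Subgroup G, IsMinimalNormal M ∧ ∃ n : ℕ, 2 ≤ n ∧ Nat.card M = p ^ n
  · obtain ⟨M, hM, n, hn, hMc⟩ := hexb
    exact hbig M hM n hn hMc
  push Not at hex hexb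
  -- all minimal normal subgroups have order `p`
  have hmin : ∀ M : Subgroup G, IsMinimalNormal M → Nat.card M = p := by
    intro M hM
    obtain ⟨r, hr, -, -, hrM⟩ := hM.exists_prime inferInstance
    haveI : Fact r.Prime := ⟨hr⟩
    obtain ⟨n, hn⟩ := IsPGroup.iff_card.1 hrM
    have hpd : p ∣ Nat.card M := by
      by_contra h
      refine hex M hM ?_
      rw [← Subgroup.card_mul_index M] at hp
      exact (Nat.Coprime.pow_left 2 (pp.coprime_iff_not_dvd.2 h)).dvd_of_dvd_mul_left hp
    rw [hn] at hpd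
    have hpr : p = r := (Nat.prime_dvd_prime_iff_eq pp hr).1 (pp.dvd_of_dvd_pow hpd)
    subst hpr
    rcases Nat.lt_or_ge n 2 with h | h
    · interval_cases n
      · exact absurd (Subgroup.card_eq_one.1 (by simpa using hn)) hM.ne_bot
      · simpa using hn
    · exact absurd hn (hexb M hM n h)
  obtain ⟨V, hV⟩ := exists_isMinimalNormal (G := G)
  haveI := hV.normal
  have hVc := hmin V hV
  have hpp : Cfsg.pPrimeCore p G = ⊥ := by
    by_contra h
    haveI : (Cfsg.pPrimeCore p G).Normal := Subgroup.sSup_normal _ fun N hN => hN.1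
    obtain ⟨M, hM, hMmin⟩ := exists_isMinimalNormal_le h
    have h1 : (Nat.card M).Coprime p :=
      (pPrimeCore_coprime p G).coprime_dvd_left (Subgroup.card_dvd_of_le hM)
    rw [hmin M hMmin] at h1
    exact pp.one_lt.ne' ((Nat.coprime_self _).1 h1)
  set P := Cfsg.pCore p G with hPdef
  haveI : P.Normal := Subgroup.sSup_normal _ fun N hN => hN.1
  have hCP : Subgroup.centralizer (P : Set G) ≤ P := centralizer_pCore_le_of_isSolvable hpp
  have hVpg : IsPGroup p V := IsPGroup.of_card (n := 1) (by rw [hVc, pow_one])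
  have hVP : V ≤ P := le_pCore hVpg
  obtain ⟨a, ha⟩ := IsPGroup.iff_card.1 (isPGroup_pCore p G)
  have hidx : ¬ p ^ 3 ∣ Nat.card G := by
    intro h
    refine hex V hV ?_
    rw [← Subgroup.card_mul_index V, hVc, pow_succ'] at h
    exact Nat.dvd_of_mul_dvd_mul_left pp.pos h
  have ha2 : a = 2 := by
    have h1 : a ≤ 2 := by
      by_contra h
      exact hidx ((pow_dvd_pow p (by omega : 3 ≤ a)).trans (ha ▸ Subgroup.card_subgroup_dvd_card P))
    have h0 : a ≠ 0 := by
      rintro rfl
      have := Subgroup.card_le_of_le hVP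
      rw [hVc, ha, pow_zero] at this
      exact absurd this (not_le.2 pp.one_lt)
    by_contra h2
    have ha1 : a = 1 := by omega
    subst ha1
    rw [pow_one] at ha
    -- then `G / P` embeds in the automorphisms of a group of order `p`
    have hVeq : V = P := Subgroup.eq_of_le_of_card_ge hVP (by rw [hVc, ha])
    have hdiv : p ∣ V.index := by
      rw [← Subgroup.card_mul_index V, hVc, pow_two] at hp
      exact Nat.dvd_of_mul_dvd_mul_left pp.pos hp
    obtain ⟨x, hx⟩ := exists_prime_orderOf_dvd_card' (G := G ⧸ V) p (by rwa [← Subgroup.index_eq_card])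
    obtain ⟨g, rfl⟩ := QuotientGroup.mk_surjective x
    -- a `p`-element acts trivially on a group of order `p`
    let f : G →* MulAut V := MulAut.conjNormal
    haveI : IsCyclic V := isCyclic_of_prime_card hVc
    have hcard : Nat.card (MulAut V) = p - 1 := by
      rw [IsCyclic.card_mulAut, hVc, Nat.totient_prime pp]
    have hgV : g ^ (p - 1) ∈ Subgroup.centralizer (V : Set G) := by
      refine Subgroup.mem_centralizer_iff.2 fun v hv => ?_
      have h1 : f (g ^ (p - 1)) = 1 := by rw [map_pow, ← hcard]; exact pow_card_eq_one'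
      have h2 : (((f (g ^ (p - 1))) ⟨v, hv⟩ : V) : G) = v := by rw [h1]; rfl
      rw [MulAut.conjNormal_apply, mul_inv_eq_iff_eq_mul] at h2
      exact h2.symm
    rw [← hVeq] at hCP
    have h3 : ((g : G ⧸ V)) ^ (p - 1) = 1 := by
      rw [← QuotientGroup.mk_pow, QuotientGroup.eq_one_iff]; exact hCP hgV
    have h4 := orderOf_dvd_of_pow_eq_one h3
    rw [hx] at h4
    have := Nat.le_of_dvd (by have := pp.two_le; omega) h4
    have := pp.two_le
    omega
  subst ha2
  refine bound_of_sylow_normal pp V P hVP hVc ha (fun h => hidx ?_) hCP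
  rw [← Subgroup.card_mul_index P, ha, pow_succ]
  exact Nat.mul_dvd_mul_left _ h

end CfsgLib.Sharp
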